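import Groth.Agent.Lib.FMod7.ComplPull

/-!
# Completion of coherent modules is exact
-/

set_option autoImplicit false
set_option linter.style.haveILetI false
set_option linter.unusedSectionVars false
universe u

open CategoryTheory CategoryTheory.Limits AlgebraicGeometry TopologicalSpace Opposite

noncomputable section

namespace GrothLib.FMod7

theorem cone_naturality {A B C : Type*} [Category A] [Category B] [Category C] {L : A ⥤ B} {R : B ⥤ A} (a : L ⊣ R)
    {S : C ⥤ A} {P : B ⥤ C} (c : R ⟶ P ⋙ S) {x y : A} (φ : x ⟶ y) :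
    φ ≫ a.unit.app y ≫ c.app (L.obj y) = (a.unit.app x ≫ c.app (L.obj x)) ≫ S.map (P.map (L.map φ)) := by
  rw [← Category.assoc, show φ ≫ a.unit.app y = a.unit.app x ≫ R.map (L.map φ) from a.unit.naturality φ,
    Category.assoc, c.naturality]
  simp

theorem shortExact_pull_of_flat {T T' : Type u} [SmallCategory T] [SmallCategory T'] {J : GrothendieckTopology T}
    {K : GrothendieckTopology T'} {O : Sheaf J CommRingCat.{u}} {O' : Sheaf K CommRingCat.{u}}
    (f : ModSite.RMor O O') (hf : PreservesFiniteLimits f.pull) {S : ShortComplex (ModSite.Mod O')} (hS : S.ShortExact) :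
    ∃ w : f.pull.map S.f ≫ f.pull.map S.g = 0, (ShortComplex.mk _ _ w).ShortExact := by
  haveI := hf
  haveI : PreservesColimitsOfSize.{0, 0} f.pull := f.adj.leftAdjoint_preservesColimits
  haveI : PreservesBinaryBiproducts f.pull := preservesBinaryBiproducts_of_preservesBinaryCoproducts _
  haveI : f.pull.Additive := Functor.additive_of_preservesBinaryBiproducts _
  exact ⟨(S.map f.pull).zero, hS.map_of_exact f.pull⟩

variable {X : Scheme.{u}} [IsLocallyNoetherian X] {𝓘 : X.IdealSheafData}
  (h : (FSch.completionAlong X 𝓘).IsFormal)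

theorem comparisonAdj_naturality {F G : X.Modules} (φ : F ⟶ G) :
    (show (show ModSite.Mod X.sheaf from F) ⟶ G from φ) ≫ comparisonAdj h G =
      comparisonAdj h F ≫ (complMor h).push.map (FSch.ModSys.realModMap h (FSch.complModMap 𝓘 φ)) := by
  haveI := (complMor h).adj.rightAdjoint_preservesLimits
  refine (isLimitOfPreserves (complMor h).push (limit.isLimit _)).hom_ext fun j => ?_
  refine (Category.assoc _ _ _).trans ((congrArg (_ ≫ ·) (comparisonAdj_proj h G j.unop)).trans ?_)
  let u := complMor h
  let π := fun (H : X.Modules) => FSch.realProj (FSch.completionAlong X 𝓘) h (FSch.complMod 𝓘 H).F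
    (FSch.complMod 𝓘 H).toPush j.unop
  let ψ := FSch.ModSys.realModMap h (FSch.complModMap 𝓘 φ)
  let χ := (FSch.levelMor (FSch.completionAlong X 𝓘) h j.unop).push.map ((FSch.complModMap 𝓘 φ).app j.unop)
  have e1 : u.push.map ψ ≫ u.push.map (π G) = u.push.map (π F) ≫ u.push.map χ :=
    (u.push.map_comp _ _).symm.trans ((congrArg u.push.map (FSch.realLimMap_realProj _ h _
      (FSch.ModSys.Hom.toPush_comm (FSch.complModMap 𝓘 φ)) j.unop)).trans (u.push.map_comp _ _))
  refine Eq.trans ?_ ((congrArg (comparisonAdj h F ≫ ·) e1).symm.trans (Category.assoc _ _ _).symm)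
  refine Eq.trans ?_ ((congrArg (· ≫ u.push.map χ) (comparisonAdj_proj h F j.unop)).symm.trans (Category.assoc _ _ _))
  exact cone_naturality (Scheme.Modules.pullbackPushforwardAdjunction (FSch.completionToX X 𝓘 j.unop))
    (schCmp h j.unop) φ

theorem comparison_naturality {F G : X.Modules} (φ : F ⟶ G) :
    (complMor h).pull.map (show (show ModSite.Mod X.sheaf from F) ⟶ G from φ) ≫ comparison h G =
      comparison h F ≫ FSch.ModSys.realModMap h (FSch.complModMap 𝓘 φ) := by
  apply ((complMor h).adj.homEquiv _ _).injective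
  refine ((complMor h).adj.homEquiv_naturality_left _ _).trans ?_
  refine Eq.trans ?_ ((complMor h).adj.homEquiv_naturality_right _ _).symm
  refine (congrArg (_ ≫ ·) ((complMor h).adj.homEquiv _ _ |>.apply_symm_apply _)).trans ?_
  exact (comparisonAdj_naturality h φ).trans
    (congrArg (· ≫ _) ((complMor h).adj.homEquiv _ _ |>.apply_symm_apply _).symm)

end GrothLib.FMod7
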