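import Groth.Agent.Lib.FMod7.Proj
import Groth.Agent.Lib.FMod7.ComplExact
import Groth.Agent.Lib.FFormal7.Supp
import Groth.Agent.S3854
import Groth.Agent.Lib.QCoh.SupportPullback
import Groth.Agent.Lib.K0Sub.Coh
import Groth.Agent.Lib.OX.Support

/-!
# Completions of coherent modules with proper support
-/

set_option autoImplicit false
set_option linter.style.haveILetI false
set_option linter.unusedSectionVars false
universe u

open CategoryTheory CategoryTheory.Limits AlgebraicGeometry TopologicalSpace Opposite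

noncomputable section

namespace GrothLib.FMod7

section Functoriality

variable {𝔛 : FSch.Sys.{u}} (h : 𝔛.IsFormal)

theorem realModMap_id (𝔐 : FSch.ModSys 𝔛) : FSch.ModSys.realModMap h (𝟙 𝔐) = 𝟙 _ :=
  limit.hom_ext fun j => ((FSch.realLimMap_realProj 𝔛 h _ (FSch.ModSys.Hom.toPush_comm (𝟙 𝔐)) j.unop).trans
    ((congrArg (FSch.realProj 𝔛 h 𝔐.F 𝔐.toPush j.unop ≫ ·) ((FSch.levelMor 𝔛 h j.unop).push.map_id _)).trans
      (Category.comp_id _))).trans (Category.id_comp _).symm

theorem realModMap_comp {𝔐 𝔑 𝔓 : FSch.ModSys 𝔛} (φ : 𝔐 ⟶ 𝔑) (ψ : 𝔑 ⟶ 𝔓) :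
    FSch.ModSys.realModMap h (φ ≫ ψ) = FSch.ModSys.realModMap h φ ≫ FSch.ModSys.realModMap h ψ := by
  refine limit.hom_ext fun j => (FSch.realLimMap_realProj 𝔛 h _ (FSch.ModSys.Hom.toPush_comm (φ ≫ ψ)) j.unop).trans ?_
  refine ((congrArg (FSch.realProj 𝔛 h 𝔐.F 𝔐.toPush j.unop ≫ ·) ((FSch.levelMor 𝔛 h j.unop).push.map_comp _ _)).trans
    (Category.assoc _ _ _).symm).trans ?_
  refine Eq.trans ?_ (Category.assoc _ _ _).symm
  refine Eq.trans ?_ (congrArg (FSch.ModSys.realModMap h φ ≫ ·)
    (FSch.realLimMap_realProj 𝔛 h _ (FSch.ModSys.Hom.toPush_comm ψ) j.unop).symm)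
  exact ((congrArg (· ≫ _) (FSch.realLimMap_realProj 𝔛 h _ (FSch.ModSys.Hom.toPush_comm φ) j.unop).symm).trans
    (Category.assoc _ _ _))

end Functoriality

section Hat

variable {X : Scheme.{u}} {𝓘 : X.IdealSheafData} (h : (FSch.completionAlong X 𝓘).IsFormal)

/-- The completion of a morphism of modules. -/
abbrev hatMap {M N : X.Modules} (φ : M ⟶ N) : (FSch.complMod 𝓘 M).realMod h ⟶ (FSch.complMod 𝓘 N).realMod h :=
  FSch.ModSys.realModMap h (FSch.complModMap 𝓘 φ)

theorem hatMap_comp {M N P : X.Modules} (φ : M ⟶ N) (ψ : N ⟶ P) :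
    hatMap h (φ ≫ ψ) = hatMap h φ ≫ hatMap h ψ := by
  refine Eq.trans ?_ (realModMap_comp h _ _)
  exact congrArg (FSch.ModSys.realModMap h) (FSch.ModSys.Hom.ext (funext fun k =>
    (Scheme.Modules.pullback (FSch.completionToX X 𝓘 k)).map_comp φ ψ))

theorem hatMap_id (M : X.Modules) : hatMap h (𝟙 M) = 𝟙 _ := by
  refine Eq.trans ?_ (realModMap_id h _)
  exact congrArg (FSch.ModSys.realModMap h) (FSch.ModSys.Hom.ext (funext fun k =>
    (Scheme.Modules.pullback (FSch.completionToX X 𝓘 k)).map_id M))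

/-- The completion of an isomorphism. -/
def hatIso {M N : X.Modules} (e : M ≅ N) : (FSch.complMod 𝓘 M).realMod h ≅ (FSch.complMod 𝓘 N).realMod h :=
  ⟨hatMap h e.hom, hatMap h e.inv, by rw [← hatMap_comp, e.hom_inv_id, hatMap_id],
    by rw [← hatMap_comp, e.inv_hom_id, hatMap_id]⟩

variable [IsLocallyNoetherian X]

theorem isCoh_complMod {M : X.Modules} (hM : Coh.IsCoh M) : (FSch.complMod 𝓘 M).IsCoh :=
  fun _ => GrothLib.FormalExist7.isCoh_pullbackMod _ hM

/-- Completion of coherent modules is exact. -/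
theorem shortExact_hatMap {S : ShortComplex X.Modules} (hS : S.ShortExact)
    (h1 : Coh.IsCoh S.X₁) (h2 : Coh.IsCoh S.X₂) (h3 : Coh.IsCoh S.X₃) :
    ∃ w : hatMap h S.f ≫ hatMap h S.g = 0, (ShortComplex.mk _ _ w).ShortExact := by
  have hN := Groth.Agent.S3854.result X 𝓘
  haveI := GrothLib.FMod7.isIso_comparison h _ hN h1 (fun k => GrothLib.FormalExist7.isCoh_pullbackMod _ h1)
  haveI := GrothLib.FMod7.isIso_comparison h _ hN h2 (fun k => GrothLib.FormalExist7.isCoh_pullbackMod _ h2)
  haveI := GrothLib.FMod7.isIso_comparison h _ hN h3 (fun k => GrothLib.FormalExist7.isCoh_pullbackMod _ h3)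
  obtain ⟨w₀, hw₀⟩ := shortExact_pull_of_flat (complMor h)
    (isFlat_complMor h) (S := (show ShortComplex (ModSite.Mod X.sheaf) from S)) hS
  have hzero : hatMap h S.f ≫ hatMap h S.g = 0 := by
    apply (cancel_epi (comparison h S.X₁)).1
    rw [← Category.assoc, ← comparison_naturality, Category.assoc, ← comparison_naturality, ← Category.assoc]
    exact (congrArg (· ≫ _) w₀).trans (zero_comp.trans comp_zero.symm)
  refine ⟨hzero, ShortComplex.shortExact_of_iso ?_ hw₀⟩
  exact ShortComplex.isoMk (asIso (comparison h S.X₁)) (asIso (comparison h S.X₂))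
    (asIso (comparison h S.X₃)) (comparison_naturality h S.f).symm (comparison_naturality h S.g).symm

theorem mono_hatMap {M N : X.Modules} (hM : Coh.IsCoh M) (hN : Coh.IsCoh N) (φ : M ⟶ N) [Mono φ] :
    Mono (hatMap h φ) := by
  obtain ⟨w, hw⟩ := shortExact_hatMap h (S := ShortComplex.mk φ (cokernel.π φ) (cokernel.condition φ))
    { exact := ShortComplex.exact_cokernel φ } hM hN (QCoh.isCoh_cokernel φ hM hN)
  exact hw.mono_f

theorem epi_hatMap {M N : X.Modules} (hM : Coh.IsCoh M) (hN : Coh.IsCoh N) (φ : M ⟶ N) [Epi φ] :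
    Epi (hatMap h φ) := by
  obtain ⟨w, hw⟩ := shortExact_hatMap h (S := ShortComplex.mk (kernel.ι φ) φ (kernel.condition φ))
    { exact := ShortComplex.exact_kernel φ } (QCoh.isCoh_kernel φ hM hN) hM hN
  exact hw.epi_g

theorem isCoh_image {M N : X.Modules} (hM : Coh.IsCoh M) (hN : Coh.IsCoh N) (φ : M ⟶ N) :
    Coh.IsCoh (Abelian.image φ) :=
  QCoh.isCoh_kernel _ hN (QCoh.isCoh_cokernel φ hM hN)

/-- Completion commutes with kernels. -/
theorem nonempty_kernel_hatMap {M N : X.Modules} (hM : Coh.IsCoh M) (hN : Coh.IsCoh N) (φ : M ⟶ N) :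
    Nonempty (kernel (hatMap h φ) ≅ (FSch.complMod 𝓘 (kernel φ)).realMod h) := by
  have hI := isCoh_image hM hN φ
  obtain ⟨w, hw⟩ := QCoh.shortExact_kernel_image φ
  obtain ⟨w', hw'⟩ := shortExact_hatMap h hw (QCoh.isCoh_kernel φ hM hN) hM hI
  haveI := mono_hatMap h hI hN (Abelian.image.ι φ)
  have e : hatMap h φ = hatMap h (Abelian.factorThruImage φ) ≫ hatMap h (Abelian.image.ι φ) := by
    rw [← hatMap_comp, Abelian.image.fac]
  exact ⟨kernelIsoOfEq e ≪≫ kernelCompMono _ _ ≪≫
    IsLimit.conePointUniqueUpToIso (limit.isLimit _) hw'.fIsKernel⟩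

/-- Completion commutes with cokernels. -/
theorem nonempty_cokernel_hatMap {M N : X.Modules} (hM : Coh.IsCoh M) (hN : Coh.IsCoh N) (φ : M ⟶ N) :
    Nonempty (cokernel (hatMap h φ) ≅ (FSch.complMod 𝓘 (cokernel φ)).realMod h) := by
  have hI := isCoh_image hM hN φ
  let S : ShortComplex X.Modules := ShortComplex.mk (Abelian.image.ι φ) (cokernel.π φ) (kernel.condition _)
  have hS : S.ShortExact :=
    { exact := ShortComplex.exact_of_f_is_kernel _ (kernelIsKernel (cokernel.π φ))
      mono_f := inferInstanceAs (Mono (Abelian.image.ι φ))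
      epi_g := inferInstanceAs (Epi (cokernel.π φ)) }
  obtain ⟨w', hw'⟩ := shortExact_hatMap h hS hI hN (QCoh.isCoh_cokernel φ hM hN)
  haveI := epi_hatMap h hM hI (Abelian.factorThruImage φ)
  have e : hatMap h φ = hatMap h (Abelian.factorThruImage φ) ≫ hatMap h (Abelian.image.ι φ) := by
    rw [← hatMap_comp, Abelian.image.fac]
  exact ⟨cokernelIsoOfEq e ≪≫ cokernelEpiComp _ _ ≪≫
    IsColimit.coconePointUniqueUpToIso (colimit.isColimit _) hw'.gIsCokernel⟩

/-- Completion commutes with images. -/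
theorem nonempty_image_hatMap {M N : X.Modules} (hM : Coh.IsCoh M) (hN : Coh.IsCoh N) (φ : M ⟶ N) :
    Nonempty (Abelian.image (hatMap h φ) ≅ (FSch.complMod 𝓘 (Abelian.image φ)).realMod h) := by
  have hI := isCoh_image hM hN φ
  haveI := mono_hatMap h hI hN (Abelian.image.ι φ)
  haveI := epi_hatMap h hM hI (Abelian.factorThruImage φ)
  haveI := strongEpi_of_epi (hatMap h (Abelian.factorThruImage φ))
  have e : hatMap h (Abelian.factorThruImage φ) ≫ hatMap h (Abelian.image.ι φ) = hatMap h φ := by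
    rw [← hatMap_comp, Abelian.image.fac]
  let mf : MonoFactorisation (hatMap h φ) :=
    { I := _
      m := hatMap h (Abelian.image.ι φ)
      e := hatMap h (Abelian.factorThruImage φ)
      fac := e }
  haveI : StrongEpi mf.e := inferInstanceAs (StrongEpi (hatMap h (Abelian.factorThruImage φ)))
  exact ⟨Abelian.imageIsoImage _ ≪≫ IsImage.isoExt (Image.isImage _) (StrongEpiMonoFactorisation.toMonoIsImage
    (F := { mf with e_strong_epi := inferInstance }))⟩

end Hat

section Supp

variable {A : Type u} [CommRing A] [IsNoetherianRing A] (J : Ideal A) [IsAdicComplete J A]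
  {X : Scheme.{u}} [X.Over (Spec (CommRingCat.of A))] [IsSeparated (X ↘ Spec (CommRingCat.of A))]
  [LocallyOfFiniteType (X ↘ Spec (CommRingCat.of A))] [QuasiCompact (X ↘ Spec (CommRingCat.of A))]
  {𝓘 : X.IdealSheafData}

include J in
/-- Completion is fully faithful on coherent modules with proper support. -/
theorem hatMap_bijective (h : (FSch.completionAlong X 𝓘).IsFormal)
    (h𝓘 : 𝓘 = GrothLib.FFormal7.baseIdeal J X) {M N : X.Modules}
    (hM : Coh.IsCoh M) (hN : Coh.IsCoh N) (hMs : FormalExist7.ProperSupp A M) :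
    Function.Bijective (fun φ : M ⟶ N => hatMap h φ) := by
  haveI := LocallyOfFiniteType.isLocallyNoetherian (X ↘ Spec (CommRingCat.of A))
  exact (realModMap_bijective (h := h) (Groth.Agent.S3854.result X 𝓘) (isCoh_complMod hM)).comp
    (GrothLib.FFormal7.complModMap_bijective_supp J 𝓘 h𝓘 hM hN hMs)

end Supp

end GrothLib.FMod7

namespace GrothLib.FMod7

section Zero

variable {X : Scheme.{u}} [IsLocallyNoetherian X] {𝓘 : X.IdealSheafData}
  (h : (FSch.completionAlong X 𝓘).IsFormal)

include h in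
/-- A coherent module with zero completion is zero on the levels. -/
theorem isZero_pullback_of_isZero {K : X.Modules} (hK : Coh.IsCoh K)
    (hz : IsZero ((FSch.complMod 𝓘 K).realMod h)) (k : ℕ) :
    IsZero ((Scheme.Modules.pullback (FSch.completionToX X 𝓘 k)).obj K) := by
  let z : FSch.complMod 𝓘 K ⟶ FSch.complMod 𝓘 K :=
    ⟨fun j => (Scheme.Modules.pullback (FSch.completionToX X 𝓘 j)).map (0 : K ⟶ K),
      (FSch.complModMap 𝓘 (0 : K ⟶ K)).comm⟩
  have e : (𝟙 _ : FSch.complMod 𝓘 K ⟶ FSch.complMod 𝓘 K) = z :=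
    (realModMap_bijective (h := h) (Groth.Agent.S3854.result X 𝓘) (isCoh_complMod hK)).1 (hz.eq_of_src _ _)
  refine (IsZero.iff_id_eq_zero _).2 ?_
  refine (congrFun (congrArg FSch.ModSys.Hom.app e) k).trans ?_
  haveI : PreservesBinaryBiproducts (Scheme.Modules.pullback (FSch.completionToX X 𝓘 k)) :=
    preservesBinaryBiproducts_of_preservesBinaryCoproducts _
  haveI : (Scheme.Modules.pullback (FSch.completionToX X 𝓘 k)).Additive :=
    Functor.additive_of_preservesBinaryBiproducts _
  exact (Scheme.Modules.pullback (FSch.completionToX X 𝓘 k)).map_zero _ _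

/-- Closed points of a scheme closed over a complete base lie on the special fibre. -/
theorem mem_support_comap_of_isClosedMap {A : Type u} [CommRing A] (J : Ideal A) [IsAdicComplete J A]
    (f : X ⟶ Spec (CommRingCat.of A)) (hf : IsClosedMap f.base) {x : X} (hx : IsClosed ({x} : Set X)) :
    x ∈ ((FSch.idealSpec A J).comap f).support := by
  rw [Scheme.IdealSheafData.support_comap]
  change f x ∈ (FSch.idealSpec A J).support
  have hc : IsClosed ({f x} : Set (Spec (CommRingCat.of A))) := by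
    rw [← Set.image_singleton]
    exact hf _ hx
  have hmax : (f x).asIdeal.IsMaximal := (PrimeSpectrum.isClosed_singleton_iff_isMaximal _).1 hc
  have hI : J ≤ (f x).asIdeal := (IsAdicComplete.le_jacobson_bot J).trans (sInf_le ⟨bot_le, hmax⟩)
  have hr : f x ∈ Set.range (Spec.map (CommRingCat.ofHom (Ideal.Quotient.mk J))) := by
    have := range_comap_of_surjective (A ⧸ J) (Ideal.Quotient.mk J) Ideal.Quotient.mk_surjective
    rw [Ideal.mk_ker] at this
    exact this.symm.le hI
  obtain ⟨w, hw⟩ := hr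
  rw [← hw, FSch.idealSpec]
  exact Scheme.Hom.range_subset_ker_support _ ⟨w, rfl⟩

include h in
/-- A coherent module with zero completion is zero if the scheme is closed over a complete base. -/
theorem isZero_of_isZero_hat {A : Type u} [CommRing A] (J : Ideal A) [IsAdicComplete J A]
    (f : X ⟶ Spec (CommRingCat.of A)) [QuasiCompact f] (hf : IsClosedMap f.base)
    (h𝓘 : 𝓘 = (FSch.idealSpec A J).comap f) {K : X.Modules} (hK : Coh.IsCoh K)
    (hz : IsZero ((FSch.complMod 𝓘 K).realMod h)) : IsZero K := by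
  haveI : CompactSpace X := QuasiCompact.compactSpace_of_compactSpace f
  refine GrothLib.OX.isZero_of_subsingleton_stalks K fun y => by_contra fun hy => ?_
  obtain ⟨x, hxy, hx⟩ := (QCoh.isClosed_support_of_isCoh hK).exists_closed_singleton ⟨y, hy⟩
  have hx' : x ∈ 𝓘.support := h𝓘 ▸ mem_support_comap_of_isClosedMap J f hf hx
  obtain ⟨z, hz'⟩ : x ∈ Set.range (FSch.completionToX X 𝓘 0) := by
    rw [FSchSys.range_completionToX]
    exact hx'
  have hs : z ∈ CohB1.support ((Scheme.Modules.pullback (FSch.completionToX X 𝓘 0)).obj K) := by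
    rw [QCoh.support_pullback _ K hK, Set.mem_preimage]
    exact hz' ▸ hxy
  rw [GrothLib.K0Sub.support_eq_empty_of_isZero (isZero_pullback_of_isZero h hK hz 0)] at hs
  exact hs

end Zero

end GrothLib.FMod7
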