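import Groth.Agent.Lib.FMod7.PullIso

/-!
# Nakayama for the modules of coherent systems; surjectivity at the smallest level
-/

set_option autoImplicit false
set_option linter.style.haveILetI false
set_option linter.unusedSectionVars false
universe u

open CategoryTheory CategoryTheory.Limits AlgebraicGeometry TopologicalSpace Opposite

noncomputable section

namespace GrothLib.FMod7

instance moduleSectScheme {X : Scheme.{u}} (M : ModSite.Mod X.sheaf) (V : X.Opens) :
    Module (X.sheaf.obj.obj (op V)) (ModSite.sect M V) :=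
  moduleSect (O := X.sheaf) M V

variable {𝔛 : FSch.Sys.{u}} {h : 𝔛.IsFormal} {𝔐 : FSch.ModSys 𝔛} {W : (𝔛.X 0).Opens}

theorem span_eq_top_of_proj_zero (hN : 𝔛.IsLocNoethFormal) (hW : IsAffineOpen W) (h𝔐 : 𝔐.IsCoh) {ι : Type*}
    (γ : ι → Mods h W 𝔐)
    (hγ : ∀ z : MSec h W 𝔐.F 0, z ∈ Submodule.span (LSec 𝔛 h W 0) (Set.range fun i => mProj h W 𝔐 0 (γ i))) :
    Submodule.span (Sec 𝔛 h W) (Set.range γ) = ⊤ := by
  haveI := moduleFinite_mods (h := h) hN hW h𝔐
  let f := AddMonoidHom.mk' (mProj h W 𝔐 0) (sProj_add h W _ _ 0)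
  refine eq_top_iff.2 (Submodule.le_of_le_smul_of_le_jacobson_bot Module.Finite.fg_top
    (secIdeal_le_jacobson hN hW) fun x _ => ?_)
  suffices H : ∀ z : MSec h W 𝔐.F 0, ∃ y ∈ Submodule.span (Sec 𝔛 h W) (Set.range γ), f y = z by
    obtain ⟨y, hy, hyx⟩ := H (f x)
    refine Submodule.mem_sup.2 ⟨y, hy, x - y, ?_, add_sub_cancel _ _⟩
    have h0 : mProj h W 𝔐 0 (x - y) = 0 := (map_sub f x y).trans (sub_eq_zero.2 hyx.symm)
    have := (mProj_eq_zero_iff hN hW h𝔐 0 _).1 h0
    simpa using this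
  intro z
  refine Submodule.span_induction ?_ ⟨0, zero_mem _, map_zero f⟩ ?_ ?_ (hγ z)
  · rintro _ ⟨i, rfl⟩
    exact ⟨_, Submodule.subset_span ⟨i, rfl⟩, rfl⟩
  · rintro a b _ _ ⟨y, hy, rfl⟩ ⟨y', hy', rfl⟩
    exact ⟨y + y', add_mem hy hy', map_add f y y'⟩
  · rintro c b _ ⟨y, hy, rfl⟩
    obtain ⟨a, rfl⟩ := proj_surjective hN hW 0 c
    exact ⟨a • y, Submodule.smul_mem _ _ hy, sProj_smul h W _ _ 0 a y⟩

variable {F G : FSch.ModF 𝔛 h} [FSch.IsCohF 𝔛 h F] [FSch.IsCohF 𝔛 h G]

/-- A morphism of coherent modules surjective on the smallest level is surjective. -/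
theorem epi_of_epi_pull_zero (hN : 𝔛.IsLocNoethFormal) (θ : F ⟶ G)
    (hθ : Epi ((FSch.levelMor 𝔛 h 0).pull.map θ)) : Epi θ := by
  classical
  have h𝔐 : (pullSys h G).IsCoh := isCoh_pullSys
  haveI := (h𝔐 0).1
  haveI : Sheaf.IsLocallySurjective ((SheafOfModules.toSheaf _).map θ) := by
    constructor
    intro U z y hy
    obtain ⟨W, hW, hyW, hWU, ι, κ, hι, hκ, s, r, hP⟩ := exists_isPres_affine (F := F) hy
    let L := FSch.levelMor 𝔛 h 0
    let φ : (pullSys h F).F 0 ⟶ (pullSys h G).F 0 := L.pull.map θ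
    let t : ι → MSec h W (pullSys h G).F 0 := fun i => psec L ((θ.val.app (op W)).hom (s i))
    have ht : ∀ i, φ.app (L.fn.obj W) (psec L (s i)) = t i := fun i =>
      (congrArg (fun ψ : F ⟶ L.push.obj (L.pull.obj G) => (ψ.val.app (op W)).hom (s i)) (L.adj.unit.naturality θ)).symm
    have hQ := hP.pull L W (levelMor_meet 0 W)
    have hspan : ∀ w : MSec h W (pullSys h G).F 0, w ∈ Submodule.span (LSec 𝔛 h W 0) (Set.range t) := fun w =>
      mem_span_of_locally (FFormal7.isAffineOpen_lvU 𝔛 h hW 0) ((pullSys h G).F 0) t w fun x hx => by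
        let φ' : L.pull.obj F ⟶ L.pull.obj G := L.pull.map θ
        haveI : Epi φ' := hθ
        haveI : Sheaf.IsLocallySurjective ((SheafOfModules.toSheaf (ModSite.ringSh (𝔛.X 0).sheaf)).map φ') :=
          (Sheaf.isLocallySurjective_iff_epi' _ ((SheafOfModules.toSheaf (ModSite.ringSh (𝔛.X 0).sheaf)).map φ')).2
            inferInstance
        obtain ⟨V, i, ⟨v, hv⟩, hxV⟩ := Presheaf.imageSieve_mem (Opens.grothendieckTopology (𝔛.X 0).carrier)
          ((SheafOfModules.toSheaf (ModSite.ringSh (𝔛.X 0).sheaf)).map φ').hom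
          (U := op (L.fn.obj W)) w x hx
        obtain ⟨V', hV', hxV', hm⟩ := hQ.gen V i.le v x hxV
        refine ⟨V', hV'.trans i.le, hxV', ?_⟩
        obtain ⟨c, hc⟩ := (Submodule.mem_span_range_iff_exists_fun _).1 hm
        refine (Submodule.mem_span_range_iff_exists_fun _).2 ⟨c, ?_⟩
        refine Eq.trans ?_ (((congrArg (fun u => ((pullSys h G).F 0).presheaf.map (homOfLE hV').op u) hv)).trans
          (ConcreteCategory.congr_hom (((pullSys h G).F 0).presheaf.map_comp i.op (homOfLE hV').op) w).symm)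
        refine Eq.trans ?_ (PresheafOfModules.naturality_apply φ.val (homOfLE hV').op v)
        refine Eq.trans ?_ (congrArg (φ.app V') hc)
        refine Eq.trans ?_ (map_sum (φ.app V').hom _ _).symm
        refine Finset.sum_congr rfl fun j _ => ?_
        refine Eq.trans ?_ (Scheme.Modules.Hom.app_smul φ (c j) _).symm
        refine congrArg ((show Γ(𝔛.X 0, V') from c j) • ·) ?_
        refine Eq.trans (congrArg _ (ht j).symm) ?_
        exact (PresheafOfModules.naturality_apply φ.val (homOfLE (hV'.trans i.le)).op (psec L (s j))).symm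
    have htop := span_eq_top_of_proj_zero hN hW h𝔐 (fun i => ηSec G W ((θ.val.app (op W)).hom (s i))) fun w => by
      refine Submodule.span_mono ?_ (hspan w)
      rintro _ ⟨i, rfl⟩
      exact ⟨i, mProj_ηSec W ((θ.val.app (op W)).hom (s i)) 0⟩
    let z' : ModSite.sect G W := G.val.map (homOfLE hWU).op z
    obtain ⟨c, hc⟩ := (Submodule.mem_span_range_iff_exists_fun _).1 (htop.symm ▸ Submodule.mem_top : ηSec G W z' ∈ _)
    refine ⟨W, homOfLE hWU, ⟨∑ i, c i • s i, sub_eq_zero.1 (ηSec_injective hN W _ ?_)⟩, hyW⟩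
    refine (map_sub ((toReal h G).val.app (op W)).hom _ _).trans (sub_eq_zero.2 ?_)
    refine Eq.trans (congrArg _ (map_sum (θ.val.app (op W)).hom _ _)) ?_
    refine Eq.trans (map_sum ((toReal h G).val.app (op W)).hom _ _) (Eq.trans ?_ hc)
    refine Finset.sum_congr rfl fun i _ => ?_
    exact (congrArg _ ((θ.val.app (op W)).hom.map_smul (c i) (s i))).trans
      (((toReal h G).val.app (op W)).hom.map_smul (c i) _)
  exact (SheafOfModules.toSheaf _).epi_of_epi_map inferInstance

end GrothLib.FMod7
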