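import Groth.Agent.Lib.FMod7.Coh

/-!
# Direct images from a level: fully faithful, and the projection as the quotient
-/

set_option autoImplicit false
set_option linter.style.haveILetI false
set_option linter.unusedSectionVars false
universe u

open CategoryTheory CategoryTheory.Limits AlgebraicGeometry TopologicalSpace Opposite

noncomputable section

namespace GrothLib.FMod7

/-- Sections of a sheaf of modules agreeing locally are equal. -/
theorem sect_ext {T : TopCat.{u}} {O : Sheaf (Opens.grothendieckTopology T) CommRingCat.{u}} (M : ModSite.Mod O)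
    {U : Opens T} (a b : ModSite.sect M U)
    (hab : ∀ x ∈ U, ∃ (W : Opens T) (hW : W ≤ U), x ∈ W ∧ sres M hW a = sres M hW b) : a = b := by
  choose W hW hxW hWab using fun x : U => hab x.1 x.2
  refine TopCat.Sheaf.eq_of_locally_eq' (show TopCat.Sheaf AddCommGrpCat.{u} T from (SheafOfModules.toSheaf _).obj M)
    W U (fun x => homOfLE (hW x)) (fun x hx => Opens.mem_iSup.2 ⟨⟨x, hx⟩, hxW _⟩) a b hWab

/-- Morphisms agreeing on sections over small affine opens are equal. -/
theorem hom_ext_basis {𝔛 : FSch.Sys.{u}} {h : 𝔛.IsFormal} {M N : FSch.ModF 𝔛 h} {f g : M ⟶ N}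
    (hfg : ∀ (U : (𝔛.X 0).Opens), IsAffineOpen U → ∀ x, f.val.app (op U) x = g.val.app (op U) x) : f = g := by
  refine SheafOfModules.hom_ext (PresheafOfModules.hom_ext fun U => ModuleCat.hom_ext (LinearMap.ext fun x => ?_))
  refine sect_ext N _ _ fun y hy => ?_
  obtain ⟨W, hW, hyW, hWU⟩ := exists_isAffineOpen_mem_and_subset (x := y) (U := U.unop) hy
  refine ⟨W, hWU, hyW, ?_⟩
  exact (PresheafOfModules.naturality_apply f.val (homOfLE (show W ≤ U.unop from hWU)).op x).symm.trans
    ((hfg W hW _).trans (PresheafOfModules.naturality_apply g.val (homOfLE (show W ≤ U.unop from hWU)).op x))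

variable {𝔛 : FSch.Sys.{u}} (h : 𝔛.IsFormal) (k : ℕ)

/-- The open of the common space under an open of a level. -/
abbrev below (V : (𝔛.X k).Opens) : (𝔛.X 0).Opens := (Opens.map (𝔛.toX k).base).obj V

theorem lvU_below (V : (𝔛.X k).Opens) : 𝔛.lvU h k (below k V) = V := by
  change (Opens.map (𝔛.gInv h k ≫ (𝔛.toX k).base)).obj V = V
  rw [FSch.Sys.gInv_toX_base]
  rfl

variable {k} {F G : (𝔛.X k).Modules}

theorem push_sect (g : (FSch.levelMor 𝔛 h k).push.obj F ⟶ (FSch.levelMor 𝔛 h k).push.obj G) (U : (𝔛.X 0).Opens)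
    (a : Sec 𝔛 h U) (m : Γ(F, 𝔛.lvU h k U)) :
    (show Γ(G, 𝔛.lvU h k U) from (g.val.app (op U)).hom
      (proj 𝔛 h U k a • m : Γ(F, 𝔛.lvU h k U))) =
      proj 𝔛 h U k a • (show Γ(G, 𝔛.lvU h k U) from (g.val.app (op U)).hom m) :=
  (g.val.app (op U)).hom.map_smul a m

variable (hN : 𝔛.IsLocNoethFormal)
include hN

theorem push_sect_smul (g : (FSch.levelMor 𝔛 h k).push.obj F ⟶ (FSch.levelMor 𝔛 h k).push.obj G) (U : (𝔛.X 0).Opens)
    (b : LSec 𝔛 h U k) (m : Γ(F, 𝔛.lvU h k U)) :
    (show Γ(G, 𝔛.lvU h k U) from (g.val.app (op U)).hom (b • m : Γ(F, 𝔛.lvU h k U))) =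
      b • (show Γ(G, 𝔛.lvU h k U) from (g.val.app (op U)).hom m) := by
  refine sect_ext ((FSch.levelMor 𝔛 h k).push.obj G) _ _ fun y hy => ?_
  obtain ⟨W, hW, hyW, hWU⟩ := exists_isAffineOpen_mem_and_subset (x := y) (U := U) hy
  refine ⟨W, hWU, hyW, ?_⟩
  have hWU' : W ≤ U := hWU
  let r := (𝔛.X k).presheaf.map (homOfLE (lvU_mono (h := h) hWU' k)).op b
  obtain ⟨a, ha⟩ := proj_surjective (h := h) hN hW k r
  let rF := F.presheaf.map (homOfLE (lvU_mono (h := h) hWU' k)).op
  let rG := G.presheaf.map (homOfLE (lvU_mono (h := h) hWU' k)).op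
  have hnat : ∀ z, rG ((g.val.app (op U)).hom z) = (g.val.app (op W)).hom (rF z) := fun z =>
    (PresheafOfModules.naturality_apply g.val (homOfLE hWU').op z).symm
  show rG _ = rG _
  refine (hnat _).trans ?_
  refine Eq.trans ?_ (Scheme.Modules.map_smul G (homOfLE (lvU_mono (h := h) hWU' k)) b _).symm
  refine (congrArg (g.val.app (op W)).hom (Scheme.Modules.map_smul F (homOfLE (lvU_mono (h := h) hWU' k)) b m)).trans ?_
  show (g.val.app (op W)).hom (r • rF m) = r • rG _
  rw [← ha]
  exact (push_sect h g W a (rF m)).trans (congrArg (proj 𝔛 h W k a • ·) (hnat m).symm)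

omit hN in
/-- The components of the morphism on the level. -/
def unpushApp (g : (FSch.levelMor 𝔛 h k).push.obj F ⟶ (FSch.levelMor 𝔛 h k).push.obj G) (V : (𝔛.X k).Opens) :
    Γ(F, V) →+ Γ(G, V) :=
  (G.presheaf.map (homOfLE (lvU_below h k V).ge).op).hom.comp
    (((g.val.app (op (below k V))).hom.toAddMonoidHom).comp (F.presheaf.map (homOfLE (lvU_below h k V).le).op).hom)

omit hN in
theorem unpushApp_eq (g : (FSch.levelMor 𝔛 h k).push.obj F ⟶ (FSch.levelMor 𝔛 h k).push.obj G) (V : (𝔛.X k).Opens)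
    (U : (𝔛.X 0).Opens) (hU : U ≤ below k V) (hUV : 𝔛.lvU h k U ≤ V) (m : Γ(F, V)) :
    G.presheaf.map (homOfLE hUV).op (unpushApp h g V m) = (g.val.app (op U)).hom (F.presheaf.map (homOfLE hUV).op m) := by
  have e : ∀ (M : (𝔛.X k).Modules) {A B C : (𝔛.X k).Opens} (h₁ : B ≤ A) (h₂ : C ≤ B) (z : Γ(M, A)),
      M.presheaf.map (homOfLE h₂).op (M.presheaf.map (homOfLE h₁).op z) = M.presheaf.map (homOfLE (h₂.trans h₁)).op z :=
    fun M A B C h₁ h₂ z => (ConcreteCategory.congr_hom (M.presheaf.map_comp (homOfLE h₁).op (homOfLE h₂).op) z).symm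
  refine (e G (lvU_below h k V).ge hUV _).trans ?_
  refine ((PresheafOfModules.naturality_apply g.val (homOfLE hU).op _).symm).trans ?_
  exact congrArg (g.val.app (op U)).hom (e F (lvU_below h k V).le (lvU_mono (h := h) hU k) m)

/-- The morphism on the level. -/
def unpush (g : (FSch.levelMor 𝔛 h k).push.obj F ⟶ (FSch.levelMor 𝔛 h k).push.obj G) : F ⟶ G :=
  ⟨PresheafOfModules.homMk
    { app := fun V => AddCommGrpCat.ofHom (unpushApp h g V.unop)
      naturality := fun V V' i => by
        ext m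
        have hle : V'.unop ≤ V.unop := i.unop.le
        let rF := F.presheaf.map (homOfLE (lvU_below h k V'.unop).le).op
        show unpushApp h g V'.unop (F.presheaf.map i m) = G.presheaf.map i (unpushApp h g V.unop m)
        haveI : IsIso (G.presheaf.map (homOfLE (lvU_below h k V'.unop).le).op) :=
          G.presheaf.map_isIso (eqToHom (congrArg op (lvU_below h k V'.unop).symm))
        refine ((ConcreteCategory.bijective_of_isIso (G.presheaf.map (homOfLE (lvU_below h k V'.unop).le).op)).1 ?_)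
        refine (unpushApp_eq h g V'.unop _ le_rfl (lvU_below h k V'.unop).le _).trans ?_
        refine Eq.trans ?_ (ConcreteCategory.congr_hom (G.presheaf.map_comp i
          (homOfLE (lvU_below h k V'.unop).le).op) _)
        refine Eq.trans ?_ (unpushApp_eq h g V.unop _ (fun x hx => hle hx)
          ((lvU_below h k V'.unop).le.trans hle) m).symm
        exact congrArg (g.val.app _).hom (ConcreteCategory.congr_hom (F.presheaf.map_comp i
          (homOfLE (lvU_below h k V'.unop).le).op) m).symm }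
    fun V (r : Γ(𝔛.X k, V.unop)) (m : Γ(F, V.unop)) => by
      show unpushApp h g V.unop (r • m) = r • unpushApp h g V.unop m
      haveI : IsIso (G.presheaf.map (homOfLE (lvU_below h k V.unop).le).op) :=
        G.presheaf.map_isIso (eqToHom (congrArg op (lvU_below h k V.unop).symm))
      refine (ConcreteCategory.bijective_of_isIso (G.presheaf.map (homOfLE (lvU_below h k V.unop).le).op)).1 ?_
      refine (unpushApp_eq h g V.unop _ le_rfl (lvU_below h k V.unop).le _).trans ?_
      refine Eq.trans ?_ (Scheme.Modules.map_smul G (homOfLE (lvU_below h k V.unop).le) r _).symm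
      rw [unpushApp_eq h g V.unop _ le_rfl (lvU_below h k V.unop).le m]
      refine (congrArg (g.val.app _).hom (Scheme.Modules.map_smul F (homOfLE (lvU_below h k V.unop).le) r m)).trans ?_
      exact push_sect_smul h hN g _ _ _⟩

theorem push_unpush (g : (FSch.levelMor 𝔛 h k).push.obj F ⟶ (FSch.levelMor 𝔛 h k).push.obj G) :
    (FSch.levelMor 𝔛 h k).push.map (unpush h hN g) = g := by
  refine hom_ext_basis fun U _ x => ?_
  show unpushApp h g (𝔛.lvU h k U) x = (g.val.app (op U)).hom x
  have hU : U ≤ below k (𝔛.lvU h k U) := (FFormal7.toX_preimage_lvU 𝔛 h k U).ge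
  have h1 := unpushApp_eq h g (𝔛.lvU h k U) U hU le_rfl x
  refine Eq.trans ?_ (h1.trans (congrArg (g.val.app (op U)).hom (ConcreteCategory.congr_hom (F.presheaf.map_id _) x)))
  exact (ConcreteCategory.congr_hom (G.presheaf.map_id _) _).symm

omit hN in
theorem push_map_injective {φ ψ : F ⟶ G} (he : (FSch.levelMor 𝔛 h k).push.map φ = (FSch.levelMor 𝔛 h k).push.map ψ) :
    φ = ψ := by
  refine Scheme.Modules.hom_ext _ _ fun V => ?_
  ext m
  have h1 := congrArg (fun f : (FSch.levelMor 𝔛 h k).push.obj F ⟶ (FSch.levelMor 𝔛 h k).push.obj G =>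
    (f.val.app (op (below k V))).hom (F.presheaf.map (homOfLE (lvU_below h k V).le).op m)) he
  haveI : IsIso (G.presheaf.map (homOfLE (lvU_below h k V).le).op) :=
    G.presheaf.map_isIso (eqToHom (congrArg op (lvU_below h k V).symm))
  refine (ConcreteCategory.bijective_of_isIso (G.presheaf.map (homOfLE (lvU_below h k V).le).op)).1 ?_
  exact (PresheafOfModules.naturality_apply φ.val (homOfLE (lvU_below h k V).le).op m).symm.trans
    (h1.trans (PresheafOfModules.naturality_apply ψ.val (homOfLE (lvU_below h k V).le).op m))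

end GrothLib.FMod7
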