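import Groth.Agent.Lib.FMod7.Nak

/-!
# The ideals of definition are of finite type
-/

set_option autoImplicit false
set_option linter.style.haveILetI false
set_option linter.unusedSectionVars false
universe u

open CategoryTheory CategoryTheory.Limits AlgebraicGeometry TopologicalSpace Opposite

noncomputable section

namespace GrothLib.FMod7

open GrothLib.LocFac25

theorem isFiniteType_of_gen {T : TopCat.{u}} {O : Sheaf (Opens.grothendieckTopology T) CommRingCat.{u}}
    (M : ModSite.Mod O)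
    (hM : ∀ x : T, ∃ (U : Opens T), x ∈ U ∧ ∃ (ι : Type u) (_ : Fintype ι) (s : ι → ModSite.sect M U),
      ∀ (V : Opens T) (hV : V ≤ U) (m : ModSite.sect M V), ∀ y ∈ V, ∃ (W : Opens T) (hW : W ≤ V),
        y ∈ W ∧ sres M hW m ∈ Submodule.span (O.obj.obj (op W)) (Set.range fun i => sres M (hW.trans hV) (s i))) :
    SheafOfModules.IsFiniteType.{u} (R := ModSite.ringSh O) M := by
  classical
  choose U hxU ι hι s hs using hM
  choose α hα using fun x i => ev_surjective (O := O) (M := (ModSite.restr O (U x)).obj M) (V := U x) (s x i)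
  let σ : SheafOfModules.LocalGeneratorsData.{u} (R := ModSite.ringSh O) M :=
    { I := T
      X := U
      coversTop := (Opens.coversTop_iff _ U).2 (eq_top_iff.2 fun y _ => Opens.mem_iSup.2 ⟨y, hxU y⟩)
      generators := fun x =>
        { I := ι x
          s := ((ModSite.restr O (U x)).obj M).freeHomEquiv (fdesc (α x))
          epi := by
            haveI := hι x
            have h1 := epi_desc M (s x) (α x) (hα x) (hs x)
            exact (congrArg Epi (((ModSite.restr O (U x)).obj M).freeHomEquiv.symm_apply_apply (fdesc (α x)))).mpr h1 } }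
  haveI : σ.IsFiniteType := by
    constructor
    intro x
    constructor
    exact @Finite.of_fintype (ι x) (hι x)
  constructor
  exact ⟨σ, inferInstance⟩

variable {𝔛 : FSch.Sys.{u}} {h : 𝔛.IsFormal} {U V : (𝔛.X 0).Opens}
variable (hN : 𝔛.IsLocNoethFormal) (hU : IsAffineOpen U) (hV : IsAffineOpen V) (hVU : V ≤ U)
include hN hU hV

theorem map_secIdeal : (secIdeal 𝔛 h U).map (rRes hVU) = secIdeal 𝔛 h V := by
  have hle : (secIdeal 𝔛 h U).map (rRes hVU) ≤ secIdeal 𝔛 h V := Ideal.map_le_iff_le_comap.2 fun a ha => by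
    refine (proj_res h U hVU 0 a).trans ?_
    rw [show proj 𝔛 h U 0 a = 0 from ha, map_zero]
  haveI := isNoetherianRing_Sec (h := h) hN hV
  refine le_antisymm hle (Submodule.le_of_le_smul_of_le_jacobson_bot (IsNoetherian.noetherian _)
    (secIdeal_le_jacobson hN hV) fun a ha => ?_)
  have h1 : proj 𝔛 h V 1 a ∈ RingHom.ker (trans 𝔛 h V 0) := by
    rw [RingHom.mem_ker, trans_proj]
    exact ha
  rw [ker_trans hV 0, ← Scheme.IdealSheafData.map_ideal (V := ⟨_, FFormal7.isAffineOpen_lvU 𝔛 h hU 1⟩)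
    (𝔛.ι 0).ker (show 𝔛.lvU h 1 V ≤ 𝔛.lvU h 1 U from lvU_mono hVU 1), ← ker_trans hU 0] at h1
  have h2 : RingHom.ker (trans 𝔛 h U 0) = (secIdeal 𝔛 h U).map (proj 𝔛 h U 1) := by
    refine le_antisymm (fun b hb => ?_) (Ideal.map_le_iff_le_comap.2 fun b hb => ?_)
    · obtain ⟨c, rfl⟩ := proj_surjective (h := h) hN hU 1 b
      rw [RingHom.mem_ker, trans_proj] at hb
      exact Ideal.mem_map_of_mem _ hb
    · show trans 𝔛 h U 0 (proj 𝔛 h U 1 b) = 0
      rw [trans_proj]
      exact hb
  rw [h2, Ideal.map_map] at h1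
  have h3 : (((𝔛.X 1).presheaf.map (homOfLE (lvU_mono (h := h) hVU 1)).op).hom.comp (proj 𝔛 h U 1)) =
      (proj 𝔛 h V 1).comp (rRes hVU) := RingHom.ext fun b => (proj_res h U hVU 1 b).symm
  have h1' : proj 𝔛 h V 1 a ∈ ((secIdeal 𝔛 h U).map (rRes hVU)).map (proj 𝔛 h V 1) := by
    rw [Ideal.map_map, ← h3]
    exact h1
  obtain ⟨b, hb, hba⟩ := (Ideal.mem_map_iff_of_surjective _ (proj_surjective (h := h) hN hV 1)).1 h1'
  refine Submodule.mem_sup.2 ⟨b, hb, a - b, ?_, add_sub_cancel _ _⟩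
  have h4 : proj 𝔛 h V 1 (a - b) = 0 := by rw [map_sub, hba, sub_self]
  have h5 : a - b ∈ secIdeal 𝔛 h V ^ 2 := (ker_proj (h := h) hN hV 1).le h4
  rwa [pow_two] at h5

theorem map_secIdeal_pow (n : ℕ) : (secIdeal 𝔛 h U ^ n).map (rRes hVU) = secIdeal 𝔛 h V ^ n := by
  rw [Ideal.map_pow, map_secIdeal hN hU hV hVU]

end GrothLib.FMod7

namespace GrothLib.FMod7

section

variable {C : Type u} [SmallCategory C] {J : GrothendieckTopology C} {O : Sheaf J CommRingCat.{u}}

/-- A section killed by a morphism comes from its kernel. -/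
theorem exists_kernel_sect {P Q : ModSite.Mod O} (g : P ⟶ Q) {U : C} (x : ModSite.sect P U)
    (hx : g.val.app (op U) x = 0) :
    ∃ z : ModSite.sect (kernel g) U, (kernel.ι g).val.app (op U) z = x := by
  have w : kernel.ι g ≫ Abelian.factorThruImage g = 0 := by
    rw [← cancel_mono (Abelian.image.ι g), Category.assoc, Abelian.image.fac, kernel.condition, zero_comp]
  let S := ShortComplex.mk (kernel.ι g) (Abelian.factorThruImage g) w
  let T := ShortComplex.mk (kernel.ι g) g (kernel.condition g)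
  let φ : S ⟶ T :=
    { τ₁ := 𝟙 _
      τ₂ := 𝟙 _
      τ₃ := Abelian.image.ι g
      comm₁₂ := (Category.id_comp _).trans (Category.comp_id _).symm
      comm₂₃ := (Category.id_comp _).trans (Abelian.image.fac g).symm }
  haveI : Epi φ.τ₁ := inferInstanceAs (Epi (𝟙 _))
  haveI : IsIso φ.τ₂ := inferInstanceAs (IsIso (𝟙 _))
  haveI : Mono φ.τ₃ := inferInstanceAs (Mono (Abelian.image.ι g))
  have hS : S.ShortExact := ShortComplex.ShortExact.mk'
    ((ShortComplex.exact_iff_of_epi_of_isIso_of_mono φ).2 (ShortComplex.exact_kernel g)) inferInstance inferInstance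
  refine PullLoc25.exists_kernel_section hS x ?_
  refine PullLoc25.app_injective (Abelian.image.ι g) U ?_
  refine (congrArg (fun φ : P ⟶ Q => φ.val.app (op U) x) (Abelian.image.fac g)).trans (hx.trans ?_)
  exact (map_zero ((Abelian.image.ι g).val.app (op U)).hom).symm

end

variable {𝔛 : FSch.Sys.{u}} {h : 𝔛.IsFormal}

theorem isPres_unit (W : (𝔛.X 0).Opens) :
    IsPres (FSch.unitF 𝔛 h) W (fun _ : PUnit.{u + 1} => ((1 : Sec 𝔛 h W) : ModSite.sect (FSch.unitF 𝔛 h) W))
      (fun (k : PEmpty.{u + 1}) => k.elim) where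
  rel k := k.elim
  gen V hV m x hx := ⟨V, le_rfl, hx, (Submodule.mem_span_range_iff_exists_fun _).2
    ⟨fun _ => sres (FSch.unitF 𝔛 h) le_rfl m, by
      rw [Fintype.sum_unique]
      refine Eq.trans (congrArg (fun w : Sec 𝔛 h V => (show Sec 𝔛 h V from sres (FSch.unitF 𝔛 h) le_rfl m) * w)
        (map_one ((𝔛.Osh h).obj.map (homOfLE (le_rfl.trans hV)).op).hom)) ?_
      exact mul_one (M := Sec 𝔛 h V) _⟩⟩
  relGen V hV a ha x hx := by
    refine ⟨V, le_rfl, hx, ?_⟩
    have h1 : a PUnit.unit = 0 := by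
      have h2 : (show Sec 𝔛 h V from a PUnit.unit) * ((𝔛.Osh h).obj.map (homOfLE hV).op).hom (1 : Sec 𝔛 h W) = 0 :=
        (Fintype.sum_unique _).symm.trans ha
      rwa [map_one, mul_one] at h2
    have h3 : (fun i => ores (𝔛.Osh h) (le_refl V) (a i)) = 0 := funext fun i => by
      rw [show i = PUnit.unit from rfl, h1]
      exact map_zero _
    rw [h3]
    exact Submodule.zero_mem _

/-- A function as a section of the structure sheaf. -/
abbrev usec {W : (𝔛.X 0).Opens} (a : Sec 𝔛 h W) : ModSite.sect (FSch.unitF 𝔛 h) W := a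

theorem psec_unit_eq_zero_iff {W : (𝔛.X 0).Opens} (hW : IsAffineOpen W) (k : ℕ) (a : Sec 𝔛 h W) :
    psec (FSch.levelMor 𝔛 h k) (usec a) = 0 ↔ proj 𝔛 h W k a = 0 := by
  let L := FSch.levelMor 𝔛 h k
  let one : ModSite.sect (FSch.unitF 𝔛 h) W := (1 : Sec 𝔛 h W)
  have h1 : psec L (usec a) = pfun L a • psec L one :=
    (congrArg (fun z : Sec 𝔛 h W => psec L (usec z)) (mul_one a).symm).trans (psec_smul L a one)
  rw [h1]
  refine ⟨fun h0 => ?_, fun h0 => ?_⟩
  · have hQ := (isPres_unit (h := h) W).pull L W (levelMor_meet k W)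
    have hmem : (fun _ : PUnit.{u + 1} => proj 𝔛 h W k a) ∈ Submodule.span (LSec 𝔛 h W k)
        (Set.range fun (j : PEmpty.{u + 1}) => (j.elim : PUnit.{u + 1} → LSec 𝔛 h W k)) :=
      mem_span_pi_of_locally (FFormal7.isAffineOpen_lvU 𝔛 h hW k) _ _ fun y hy => by
        obtain ⟨V', hV', hyV, hm⟩ := hQ.relGen (L.fn.obj W) le_rfl (fun _ => pfun L a) (by
          exact (Fintype.sum_unique _).trans ((congrArg (pfun L a • ·) (sres_id _)).trans h0)) y hy
        refine ⟨V', hV', hyV, ?_⟩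
        refine Submodule.span_mono ?_ hm
        rintro _ ⟨j, -⟩
        exact j.elim
    rw [Set.range_eq_empty, Submodule.span_empty, Submodule.mem_bot] at hmem
    exact congrFun hmem PUnit.unit
  · have h2 : pfun L a = 0 := h0
    rw [h2, zero_smul]

variable (hN : 𝔛.IsLocNoethFormal)
include hN

set_option maxHeartbeats 1000000 in
/-- The ideals of definition are of finite type. -/
theorem isFiniteType_kernel_unit (n : ℕ) : SheafOfModules.IsFiniteType.{u} (R := ModSite.ringSh (𝔛.Osh h))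
    (kernel ((FSch.levelMor 𝔛 h n).adj.unit.app (FSch.unitF 𝔛 h))) := by
  classical
  refine isFiniteType_of_gen _ fun x => ?_
  obtain ⟨U, hU, hxU, -⟩ := exists_isAffineOpen_mem_and_subset (x := x) (U := (⊤ : (𝔛.X 0).Opens)) trivial
  let g := (FSch.levelMor 𝔛 h n).adj.unit.app (FSch.unitF 𝔛 h)
  haveI := isNoetherianRing_Sec (h := h) hN hU
  obtain ⟨l, a, ha⟩ := Submodule.fg_iff_exists_fin_generating_family.1
    (IsNoetherian.noetherian (secIdeal 𝔛 h U ^ (n + 1)))
  have hag : ∀ j, g.val.app (op U) (usec (a j)) = 0 := fun j =>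
    (psec_unit_eq_zero_iff hU n (a j)).2 ((ker_proj (h := h) hN hU n).ge (ha ▸ Submodule.subset_span ⟨j, rfl⟩))
  choose z hz using fun j => exists_kernel_sect g _ (hag j)
  refine ⟨U, hxU, ULift.{u} (Fin l), inferInstance, fun j => z j.down, fun V hV m y hy => ?_⟩
  obtain ⟨W, hW, hyW, hWV⟩ := exists_isAffineOpen_mem_and_subset (x := y) (U := V) hy
  have hWV' : W ≤ V := hWV
  refine ⟨W, hWV', hyW, ?_⟩
  let b : Sec 𝔛 h W := (kernel.ι g).val.app (op W) (sres (kernel g) hWV' m)
  have hb : b ∈ secIdeal 𝔛 h W ^ (n + 1) := (ker_proj (h := h) hN hW n).le ((psec_unit_eq_zero_iff hW n b).1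
    (congrArg (fun φ : kernel g ⟶ _ => φ.val.app (op W) (sres (kernel g) hWV' m)) (kernel.condition g)))
  rw [← map_secIdeal_pow hN hU hW (hWV'.trans hV), show secIdeal 𝔛 h U ^ (n + 1) = Ideal.span (Set.range a) from ha.symm,
    Ideal.map_span, ← Set.range_comp, Ideal.span] at hb
  obtain ⟨c, hc⟩ := (Submodule.mem_span_range_iff_exists_fun _).1 hb
  refine (Submodule.mem_span_range_iff_exists_fun _).2 ⟨fun j => c j.down, ?_⟩
  apply PullLoc25.app_injective (kernel.ι g) W
  refine (map_sum ((kernel.ι g).val.app (op W)).hom _ _).trans ?_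
  refine Eq.trans ?_ ((Equiv.ulift.sum_comp fun j => c j • (rRes (hWV'.trans hV) (a j))).trans hc)
  refine Finset.sum_congr rfl fun j _ => ?_
  refine ((((kernel.ι g).val.app (op W)).hom.map_smul (c j.down) _)).trans (congrArg (fun w : Sec 𝔛 h W => c j.down * w) ?_)
  exact (PresheafOfModules.naturality_apply (kernel.ι g).val (homOfLE (hWV'.trans hV)).op (z j.down)).trans
    (congrArg ((FSch.unitF 𝔛 h).val.map (homOfLE (hWV'.trans hV)).op) (hz j.down))

end GrothLib.FMod7
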