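import Groth.Agent.Lib.FMod7.QSec

/-!
# Spans of sections over an affine open are local
-/

set_option autoImplicit false
set_option linter.style.haveILetI false
set_option linter.unusedSectionVars false
universe u

open CategoryTheory CategoryTheory.Limits AlgebraicGeometry Opposite TopologicalSpace

noncomputable section

namespace GrothLib.FMod7

variable {X : Scheme.{u}} {V : X.Opens} (hV : IsAffineOpen V) {ι κ : Type u} [Fintype ι] [Fintype κ]
include hV

theorem exists_multiples_germ {W : X.Opens} {y : X} (hy : y ∈ V) (hyW : y ∈ W) (c : ι → Γ(X, W)) :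
    ∃ (w : Γ(X, V)) (b : ι → Γ(X, V)), w ∉ WeakAss.primeAt y hy ∧
      ∀ i, X.presheaf.germ V y hy (b i) = X.presheaf.germ V y hy w * X.presheaf.germ W y hyW (c i) := by
  letI := X.presheaf.algebra_section_stalk ⟨y, hy⟩
  haveI := FlatFP.isLocalization_stalk_primeAt hV hy
  obtain ⟨w, hw⟩ := IsLocalization.exist_integer_multiples_of_finite (WeakAss.primeAt y hy).primeCompl
    (fun i => X.presheaf.germ W y hyW (c i))
  choose b hb using hw
  exact ⟨w.1, b, w.2, hb⟩

/-- A section locally in the span of sections is in their span. -/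
theorem mem_span_of_locally (G : X.Modules) [G.IsQuasicoherent] (g : ι → Γ(G, V)) (x : Γ(G, V))
    (h : ∀ y ∈ V, ∃ (W : X.Opens) (hW : W ≤ V), y ∈ W ∧
      G.presheaf.map (homOfLE hW).op x ∈ Submodule.span Γ(X, W) (Set.range fun i => G.presheaf.map (homOfLE hW).op (g i))) :
    x ∈ Submodule.span Γ(X, V) (Set.range g) := by
  refine mem_of_forall_prime hV _ x fun y hy => ?_
  obtain ⟨W, hW, hyW, hx⟩ := h y hy
  obtain ⟨c, hc⟩ := (Submodule.mem_span_range_iff_exists_fun _).1 hx
  obtain ⟨w, b, hw, hb⟩ := exists_multiples_germ hV hy hyW c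
  have hg : G.presheaf.germ V y hy (w • x) = G.presheaf.germ V y hy (∑ i, b i • g i) := by
    rw [WeakAss.germ_smul, ← TopCat.Presheaf.germ_res_apply G.presheaf (homOfLE hW) y hyW x, ← hc, map_sum, map_sum,
      Finset.smul_sum]
    refine Finset.sum_congr rfl fun i _ => ?_
    rw [WeakAss.germ_smul, WeakAss.germ_smul, TopCat.Presheaf.germ_res_apply, hb, mul_smul]
  obtain ⟨d, hd, hde⟩ := exists_kill_of_germ_eq G hV hy hg
  refine ⟨d * w, fun h' => (Ideal.IsPrime.mem_or_mem inferInstance h').elim hd hw, ?_⟩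
  rw [mul_smul, hde]
  exact Submodule.smul_mem _ _ (Submodule.sum_mem _ fun i _ => Submodule.smul_mem _ _ (Submodule.subset_span ⟨i, rfl⟩))

/-- A vector of functions locally in the span of vectors is in their span. -/
theorem mem_span_pi_of_locally (r : κ → ι → Γ(X, V)) (a : ι → Γ(X, V))
    (h : ∀ y ∈ V, ∃ (W : X.Opens) (hW : W ≤ V), y ∈ W ∧ (fun i => X.presheaf.map (homOfLE hW).op (a i)) ∈
      Submodule.span Γ(X, W) (Set.range fun k i => X.presheaf.map (homOfLE hW).op (r k i))) :
    a ∈ Submodule.span Γ(X, V) (Set.range r) := by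
  classical
  refine mem_of_forall_prime hV _ a fun y hy => ?_
  obtain ⟨W, hW, hyW, hx⟩ := h y hy
  obtain ⟨c, hc⟩ := (Submodule.mem_span_range_iff_exists_fun _).1 hx
  obtain ⟨w, b, hw, hb⟩ := exists_multiples_germ hV hy hyW c
  letI := X.presheaf.algebra_section_stalk ⟨y, hy⟩
  haveI := FlatFP.isLocalization_stalk_primeAt hV hy
  have hker : ∀ i, ∃ d, d ∉ WeakAss.primeAt y hy ∧ d * (w * a i) = d * ∑ k, b k * r k i := by
    intro i
    obtain ⟨d, hd⟩ := (IsLocalization.eq_iff_exists (WeakAss.primeAt y hy).primeCompl (X.presheaf.stalk y)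
      (x := w * a i) (y := ∑ k, b k * r k i)).1 (by
      show X.presheaf.germ V y hy _ = X.presheaf.germ V y hy _
      rw [map_mul, map_sum, ← TopCat.Presheaf.germ_res_apply X.presheaf (homOfLE hW) y hyW (a i),
        ← congrFun hc i, Finset.sum_apply, map_sum, Finset.mul_sum]
      refine Finset.sum_congr rfl fun k _ => ?_
      rw [Pi.smul_apply, smul_eq_mul, map_mul, map_mul, TopCat.Presheaf.germ_res_apply, hb, mul_assoc])
    exact ⟨d.1, d.2, hd⟩
  choose d hd hde using hker
  refine ⟨(∏ i, d i) * w, fun h' => ?_, ?_⟩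
  · rcases Ideal.IsPrime.mem_or_mem inferInstance h' with h' | h'
    · obtain ⟨i, -, hi⟩ := (Ideal.IsPrime.prod_mem_iff (p := WeakAss.primeAt y hy)).1 h'
      exact hd i hi
    · exact hw h'
  · have : ((∏ i, d i) * w) • a = (∏ i, d i) • ∑ k, b k • r k := by
      funext i
      simp only [Pi.smul_apply, smul_eq_mul, Finset.sum_apply]
      obtain ⟨e, he⟩ := Finset.dvd_prod_of_mem d (Finset.mem_univ i)
      rw [he, mul_assoc, mul_comm (d i) e, mul_assoc, mul_assoc, hde]
    rw [this]
    exact Submodule.smul_mem _ _ (Submodule.sum_mem _ fun k _ => Submodule.smul_mem _ _ (Submodule.subset_span ⟨k, rfl⟩))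

end GrothLib.FMod7
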