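import Groth.Agent.Lib.FMod7.Ring
import Groth.Agent.Lib.PullLoc25.Exact
import Mathlib.RingTheory.AdicCompletion.AsTensorProduct
import Mathlib.RingTheory.Flat.EquationalCriterion

/-!
# The completion of a Noetherian scheme along a closed subscheme is flat
-/

set_option autoImplicit false
set_option linter.style.haveILetI false
set_option linter.unusedSectionVars false
universe u

open CategoryTheory CategoryTheory.Limits AlgebraicGeometry TopologicalSpace Opposite

noncomputable section

namespace GrothLib.FMod7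

theorem flat_of_levels {A B : Type u} [CommRing A] [IsNoetherianRing A] [CommRing B] [Algebra A B] (I : Ideal A)
    (S : ℕ → Type u) [∀ k, CommRing (S k)] (π : ∀ k, B →+* S k) (t : ∀ k, S (k + 1) →+* S k)
    (hcomm : ∀ k b, t k (π (k + 1) b) = π k b)
    (hinj : ∀ b, (∀ k, π k b = 0) → b = 0)
    (hex : ∀ s : ∀ k, S k, (∀ k, t k (s (k + 1)) = s k) → ∃ b, ∀ k, π k b = s k)
    (hsurj : ∀ k, Function.Surjective ((π k).comp (algebraMap A B)))
    (hker : ∀ k, RingHom.ker ((π k).comp (algebraMap A B)) = I ^ (k + 1)) : Module.Flat A B := by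
  let q : ∀ k, A →+* S k := fun k => (π k).comp (algebraMap A B)
  have hq : ∀ k a, t k (q (k + 1) a) = q k a := fun k a => hcomm k _
  have hsucc : ∀ k {a a' : A}, q k a = q k a' → a - a' ∈ I ^ (k + 1) := fun k a a' e => by
    rw [← hker k, RingHom.mem_ker]
    exact (map_sub (q k) a a').trans (sub_eq_zero.2 e)
  have key : ∀ n {a a' : A}, q n a = q n a' →
      (Submodule.Quotient.mk a : A ⧸ (I ^ n • ⊤ : Submodule A A)) = Submodule.Quotient.mk a' := fun n a a' e => by
    rw [Submodule.Quotient.eq, Ideal.smul_eq_mul, Ideal.mul_top]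
    exact Ideal.pow_le_pow_right (Nat.le_succ n) (hsucc n e)
  choose a ha using fun b n => hsurj n (π n b)
  have ha' : ∀ b n, q n (a b n) = π n b := ha
  have hcau : ∀ b n, a b n ≡ a b (n + 1) [SMOD (I ^ n • ⊤ : Submodule A A)] := fun b n => by
    refine key n ?_
    rw [← hq n (a b (n + 1)), ha', ha', hcomm]
  let Φ : B →ₗ[A] AdicCompletion I A :=
    { toFun := fun b => AdicCompletion.mk I A (AdicCompletion.AdicCauchySequence.mk I A (a b) (hcau b))
      map_add' := fun b b' => AdicCompletion.ext fun n => key n (by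
        show q n (a (b + b') n) = q n (a b n + a b' n)
        rw [map_add, ha', ha', ha', map_add])
      map_smul' := fun c b => AdicCompletion.ext fun n => key n (by
        show q n (a (c • b) n) = q n (c * a b n)
        rw [map_mul, ha', ha', Algebra.smul_def, map_mul]
        rfl) }
  have hΦ : Function.Bijective Φ := by
    refine ⟨(injective_iff_map_eq_zero Φ).2 fun b hb => hinj b fun k => ?_, fun x => ?_⟩
    · have h1 := congrArg (fun z : AdicCompletion I A => z.val (k + 1)) hb
      have h2 : (Submodule.Quotient.mk (a b (k + 1)) : A ⧸ (I ^ (k + 1) • ⊤ : Submodule A A)) = 0 := h1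
      rw [Submodule.Quotient.mk_eq_zero, Ideal.smul_eq_mul, Ideal.mul_top, ← hker k, RingHom.mem_ker] at h2
      rw [← hcomm k b, ← ha' b (k + 1), hq]
      exact h2
    · obtain ⟨f, rfl⟩ := AdicCompletion.mk_surjective I A x
      obtain ⟨b, hb⟩ := hex (fun k => q k (f (k + 1))) fun k => by
        rw [hq, ← sub_eq_zero, ← map_sub, ← RingHom.mem_ker, hker k]
        have h1 := f.property (Nat.le_succ (k + 1))
        rw [SModEq.sub_mem, Ideal.smul_eq_mul, Ideal.mul_top] at h1
        rw [← neg_sub]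
        exact neg_mem h1
      refine ⟨b, AdicCompletion.ext fun n => ?_⟩
      show (Submodule.Quotient.mk (a b n) : A ⧸ (I ^ n • ⊤ : Submodule A A)) = Submodule.Quotient.mk (f n)
      exact (key n ((ha' b n).trans (hb n))).trans (f.property (Nat.le_succ n)).symm
  exact Module.Flat.of_linearEquiv (LinearEquiv.ofBijective Φ hΦ)

/-- Vanishing scalar relations over a flat algebra are trivial. -/
theorem exists_trivial_relations {A B : Type u} [CommRing A] [CommRing B] [Algebra A B] [Module.Flat A B]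
    {α β : Type u} [Fintype α] [Fintype β] (d : α → B) (r : β → α → A)
    (h : ∀ b, ∑ i, d i * algebraMap A B (r b i) = 0) :
    ∃ (l : ℕ) (u : Fin l → B) (a : α → Fin l → A),
      (∀ i, d i = ∑ j, algebraMap A B (a i j) * u j) ∧ ∀ b j, ∑ i, a i j * r b i = 0 := by
  classical
  let xl : (α → A) →ₗ[A] B := Fintype.linearCombination A d
  let fl : (β → A) →ₗ[A] (α → A) := Fintype.linearCombination A r
  have hxf : xl ∘ₗ fl = 0 := by
    refine LinearMap.pi_ext' fun b => LinearMap.ext_ring ?_
    change xl (fl (Pi.single b 1)) = 0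
    rw [Fintype.linearCombination_apply_single, one_smul, Fintype.linearCombination_apply]
    refine Eq.trans (Finset.sum_congr rfl fun e _ => ?_) (h b)
    rw [Algebra.smul_def, mul_comm]
  obtain ⟨k, a, y, hxy, haf⟩ := Module.Flat.exists_factorization_of_comp_eq_zero_of_free hxf
  refine ⟨k, fun j => y (Finsupp.single j 1), fun e j => a (Pi.single e 1) j, fun e => ?_, fun b j => ?_⟩
  · have h := LinearMap.congr_fun hxy (Pi.single e 1)
    rw [Fintype.linearCombination_apply_single, one_smul, LinearMap.comp_apply,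
      ← Finsupp.univ_sum_single (a (Pi.single e 1)), map_sum] at h
    refine h.trans (Finset.sum_congr rfl fun j _ => ?_)
    rw [← Finsupp.smul_single_one j, map_smul, Algebra.smul_def]
  · have h := congrArg (fun z : Fin k →₀ A => z j) (LinearMap.congr_fun haf (Pi.single b 1))
    simp only [LinearMap.comp_apply, LinearMap.zero_apply, Finsupp.zero_apply, fl,
      Fintype.linearCombination_apply_single, one_smul] at h
    rw [show r b = ∑ e, r b e • Pi.single (M := fun _ => A) e 1 from
      (pi_eq_sum_univ' (r b)), map_sum, Finsupp.finsetSum_apply] at h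
    refine Eq.trans (Finset.sum_congr rfl fun e _ => ?_) h
    rw [map_smul, Finsupp.smul_apply, smul_eq_mul, mul_comm]

variable {X : Scheme.{u}} [IsLocallyNoetherian X] {𝓘 : X.IdealSheafData}
  (h : (FSch.completionAlong X 𝓘).IsFormal)

/-- The morphism of ringed spaces from the completion. -/
abbrev complMor : ModSite.RMor ((FSch.completionAlong X 𝓘).Osh h) X.sheaf :=
  FSch.toSchemeMor (FSch.completionAlong X 𝓘) h (FSch.completionToX X 𝓘) (FSch.completionToX_comm X 𝓘)

/-- The closed subspace under an open. -/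
abbrev onCompl (U : X.Opens) : ((FSch.completionAlong X 𝓘).X 0).Opens := FSch.completionToX X 𝓘 0 ⁻¹ᵁ U

/-- The functions on an open restricted to the completion. -/
abbrev complFun (U : X.Opens) : Γ(X, U) →+* Sec (FSch.completionAlong X 𝓘) h (onCompl U) :=
  ((complMor h).sharp.hom.app (op U)).hom

theorem proj_complFun (U : X.Opens) (k : ℕ) :
    (proj (FSch.completionAlong X 𝓘) h (onCompl U) k).comp (complFun h U) =
      ((FSch.completionToX X 𝓘 k).appLE U ((FSch.completionAlong X 𝓘).lvU h k (onCompl U))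
        (FSch.lvU_p (FSch.completionAlong X 𝓘) h (FSch.completionToX X 𝓘) (FSch.completionToX_comm X 𝓘) k U).ge).hom := by
  ext a
  exact congrArg (fun φ : X.sheaf ⟶ (TopCat.Sheaf.pushforward CommRingCat.{u} (FSch.completionToX X 𝓘 0).base).obj
      ((FSch.completionAlong X 𝓘).levelObj h k) => φ.hom.app (op U) a)
    (FSch.schSharp_proj (FSch.completionAlong X 𝓘) h (FSch.completionToX X 𝓘) (FSch.completionToX_comm X 𝓘) k)

theorem flat_complFun {U : X.Opens} (hU : IsAffineOpen U) : (complFun h U).Flat := by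
  haveI := IsLocallyNoetherian.component_noetherian (X := X) ⟨U, hU⟩
  letI : Algebra Γ(X, U) (Sec (FSch.completionAlong X 𝓘) h (onCompl U)) := (complFun h U).toAlgebra
  have hV : IsAffineOpen (onCompl (𝓘 := 𝓘) U) := hU.preimage (FSch.completionToX X 𝓘 0)
  let p := fun k => FSch.completionToX X 𝓘 k
  let C := FSch.completionAlong X 𝓘
  refine flat_of_levels (𝓘.ideal ⟨U, hU⟩) (fun k => LSec C h (onCompl U) k) (fun k => proj C h (onCompl U) k)
    (fun k => trans C h (onCompl U) k) (fun k b => trans_proj C h (onCompl U) k b)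
    (fun b hb => FFormal7.Osh_section_ext C h _ b 0 fun k => (hb k).trans (map_zero _).symm)
    (fun s hs => FFormal7.exists_Osh_section C h _ s hs) (fun k => ?_) (fun k => ?_)
  · rw [show algebraMap Γ(X, U) (Sec C h (onCompl U)) = complFun h U from rfl, proj_complFun]
    rw [Scheme.Hom.appLE]
    haveI : IsClosedImmersion (p k) := inferInstanceAs (IsClosedImmersion ((𝓘 ^ (k + 1)).subschemeι))
    haveI : IsIso ((C.X k).presheaf.map (homOfLE (FSch.lvU_p C h p (FSch.completionToX_comm X 𝓘) k U).ge).op) :=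
      (C.X k).presheaf.map_isIso (eqToHom (congrArg op (FSch.lvU_p C h p (FSch.completionToX_comm X 𝓘) k U)))
    exact ((ConcreteCategory.bijective_of_isIso
      ((C.X k).presheaf.map (homOfLE (FSch.lvU_p C h p (FSch.completionToX_comm X 𝓘) k U).ge).op)).2).comp
      ((p k).app_surjective U hU)
  · rw [show algebraMap Γ(X, U) (Sec C h (onCompl U)) = complFun h U from rfl, proj_complFun]
    haveI : IsClosedImmersion (p k) := inferInstanceAs (IsClosedImmersion ((𝓘 ^ (k + 1)).subschemeι))
    refine (ker_appLE_of_eq (p k) ⟨U, hU⟩ _ _ (FSch.lvU_p C h p (FSch.completionToX_comm X 𝓘) k U).symm).trans ?_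
    show ((𝓘 ^ (k + 1)).subschemeι).ker.ideal ⟨U, hU⟩ = _
    rw [Scheme.IdealSheafData.ker_subschemeι, Scheme.IdealSheafData.ideal_pow, Pi.pow_apply]

theorem exists_affine_below {V : ((FSch.completionAlong X 𝓘).X 0).Opens} {x : (FSch.completionAlong X 𝓘).X 0}
    (hx : x ∈ V) {W : X.Opens} (hW : FSch.completionToX X 𝓘 0 x ∈ W) :
    ∃ U : X.Opens, IsAffineOpen U ∧ U ≤ W ∧ x ∈ onCompl U ∧ onCompl U ≤ V := by
  haveI : IsClosedImmersion (FSch.completionToX X 𝓘 0) :=
    inferInstanceAs (IsClosedImmersion ((𝓘 ^ (0 + 1)).subschemeι))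
  obtain ⟨O, hO, hOV⟩ := (FSch.completionToX X 𝓘 0).isClosedEmbedding.isInducing.isOpen_iff.1 V.2
  have hxO : FSch.completionToX X 𝓘 0 x ∈ O := by
    have : x ∈ (FSch.completionToX X 𝓘 0) ⁻¹' O := by rw [hOV]; exact hx
    exact this
  obtain ⟨U, hU, hxU, hUW⟩ := exists_isAffineOpen_mem_and_subset (x := FSch.completionToX X 𝓘 0 x)
    (U := W ⊓ ⟨O, hO⟩) ⟨hW, hxO⟩
  exact ⟨U, hU, fun z hz => (hUW hz).1, hxU, fun z hz => (Set.ext_iff.1 hOV z).1 (hUW hz).2⟩

/-- The completion is flat over the scheme. -/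
theorem isFlat_complMor : (complMor h).IsFlat := by
  refine PullLoc25.isFlat_of_locFlat _ fun {V} {W} q {α β} _ _ d r hr => ?_
  choose U hU hUW hxU hUV using fun x : V => exists_affine_below (𝓘 := 𝓘) x.2 (W := W) (q.le x.2)
  let R : Sieve V :=
    { arrows := fun V' g => ∃ x : V, V' ≤ onCompl (U x)
      downward_closed := fun {Y Z g} ⟨x, hx⟩ k => ⟨x, k.le.trans hx⟩ }
  refine ⟨R, fun x hx => ⟨onCompl (U ⟨x, hx⟩), homOfLE (hUV _), ⟨⟨x, hx⟩, le_rfl⟩, hxU _⟩, fun V' g ⟨x, hx⟩ => ?_⟩
  let c : U x ⟶ W := homOfLE (hUW x)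
  let g₀ : onCompl (U x) ⟶ V := homOfLE (hUV x)
  let F := complMor h
  letI : Algebra Γ(X, U x) (Sec (FSch.completionAlong X 𝓘) h (onCompl (U x))) := (complFun h (U x)).toAlgebra
  haveI : Module.Flat Γ(X, U x) (Sec (FSch.completionAlong X 𝓘) h (onCompl (U x))) := flat_complFun h (hU x)
  have h0 : ∀ e, algebraMap Γ(X, U x) (Sec (FSch.completionAlong X 𝓘) h (onCompl (U x))) (FlatRel25.resR c e) =
      FlatRel25.resR g₀ (PullLoc25.coef F q e) := fun e => by
    refine Eq.trans ?_ (PullLoc25.coef_resR F q g₀ e).symm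
    refine Eq.trans ?_ ((PullLoc25.coef_map F c (𝟙 (onCompl (U x))) e).trans
      (congrArg (fun p => PullLoc25.coef F p e) (Subsingleton.elim _ _)))
    exact (ConcreteCategory.congr_hom (((FSch.completionAlong X 𝓘).Osh h).obj.map_id _) _).symm
  obtain ⟨l, u, a, hu, ha⟩ := exists_trivial_relations (A := Γ(X, U x))
    (B := Sec (FSch.completionAlong X 𝓘) h (onCompl (U x)))
    (fun i => FlatRel25.resR g₀ (d i)) (fun b i => FlatRel25.resR c (r b i)) fun b => by
      have h1 := congrArg (FlatRel25.resR (O := (FSch.completionAlong X 𝓘).Osh h) g₀) (hr b)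
      refine Eq.trans ?_ (h1.trans (map_zero ((FSch.completionAlong X 𝓘).Osh h |>.obj.map g₀.op).hom))
      refine Eq.trans ?_ (map_sum ((FSch.completionAlong X 𝓘).Osh h |>.obj.map g₀.op).hom _ _).symm
      exact Finset.sum_congr rfl fun i _ => (congrArg (_ * ·) (h0 _)).trans
        (map_mul ((FSch.completionAlong X 𝓘).Osh h |>.obj.map g₀.op).hom _ _).symm
  let q' : V' ⟶ F.fn.obj (U x) := homOfLE hx
  refine ⟨U x, c, q', Subsingleton.elim _ _, l, fun j => FlatRel25.resR q' (u j), a, fun i => ?_, fun b j => ha b j⟩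
  have h2 : FlatRel25.resR g (d i) = FlatRel25.resR q' (FlatRel25.resR g₀ (d i)) :=
    (congrArg (fun p => FlatRel25.resR p (d i)) (Subsingleton.elim g (q' ≫ g₀))).trans (FlatRel25.resR_resR g₀ q' _).symm
  refine h2.trans ((congrArg (FlatRel25.resR (O := (FSch.completionAlong X 𝓘).Osh h) q') (hu i)).trans ?_)
  refine (map_sum ((FSch.completionAlong X 𝓘).Osh h |>.obj.map q'.op).hom _ _).trans ?_
  refine Finset.sum_congr rfl fun j _ => ?_
  exact map_mul ((FSch.completionAlong X 𝓘).Osh h |>.obj.map q'.op).hom _ _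

end GrothLib.FMod7
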