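import Groth.Agent.Lib.FMod7.PullIso
import Groth.Agent.Lib.FMod7.ComplFlat
import Groth.Agent.Lib.FFormal7.Adjunct
import Groth.Agent.Lib.QCoh.FT
import Groth.Prelude.Def_FSch3

/-!
# The inverse image to the completion is the completion
-/

set_option autoImplicit false
set_option linter.style.haveILetI false
set_option linter.unusedSectionVars false
universe u

open CategoryTheory CategoryTheory.Limits AlgebraicGeometry TopologicalSpace Opposite

noncomputable section

namespace GrothLib.FMod7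

section Functorial

variable {𝔛 : FSch.Sys.{u}} {h : 𝔛.IsFormal} {F G : FSch.ModF 𝔛 h}

/-- The morphism of systems of inverse images. -/
def pullMap (θ : F ⟶ G) : pullSys h F ⟶ pullSys h G :=
  ⟨fun k => (FSch.levelMor 𝔛 h k).pull.map θ, fun k => (pullTransIso h k).hom.naturality θ⟩

theorem toReal_naturality (θ : F ⟶ G) :
    θ ≫ toReal h G = toReal h F ≫ FSch.ModSys.realModMap h (pullMap θ) := by
  refine limit.hom_ext fun j => ?_
  refine (Category.assoc _ _ _).trans ((congrArg (θ ≫ ·) (toReal_realProj h G j.unop)).trans ?_)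
  refine ((FSch.levelMor 𝔛 h j.unop).adj.unit.naturality θ).trans ?_
  refine ((congrArg (· ≫ _) (toReal_realProj h F j.unop).symm).trans (Category.assoc _ _ _)).trans ?_
  refine Eq.trans ?_ (Category.assoc _ _ _).symm
  exact congrArg (toReal h F ≫ ·)
    (FSch.realLimMap_realProj 𝔛 h _ (FSch.ModSys.Hom.toPush_comm (pullMap θ)) j.unop).symm

theorem isIso_realModMap {𝔐 𝔑 : FSch.ModSys 𝔛} (φ : 𝔐 ⟶ 𝔑) [hφ : ∀ k, IsIso (φ.app k)] :
    IsIso (FSch.ModSys.realModMap h φ) := by
  haveI : ∀ j, IsIso ((FSch.levelSysMap 𝔛 h φ.app (FSch.ModSys.Hom.toPush_comm φ)).app j) := fun j =>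
    @Functor.map_isIso _ _ _ _ _ _ (FSch.levelMor 𝔛 h j.unop).push (φ.app j.unop) (hφ j.unop)
  haveI := NatIso.isIso_of_isIso_app (FSch.levelSysMap 𝔛 h φ.app (FSch.ModSys.Hom.toPush_comm φ))
  exact inferInstanceAs (IsIso (lim.map (FSch.levelSysMap 𝔛 h φ.app (FSch.ModSys.Hom.toPush_comm φ))))

/-- A morphism of coherent modules is an isomorphism if it is one on all levels. -/
theorem isIso_of_isIso_pull [FSch.IsCohF 𝔛 h F] [FSch.IsCohF 𝔛 h G] (hN : 𝔛.IsLocNoethFormal) (θ : F ⟶ G)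
    [∀ k, IsIso ((FSch.levelMor 𝔛 h k).pull.map θ)] : IsIso θ := by
  haveI := isIso_toReal (F := F) hN
  haveI := isIso_toReal (F := G) hN
  haveI : ∀ k, IsIso ((pullMap θ).app k) := fun k => inferInstanceAs (IsIso ((FSch.levelMor 𝔛 h k).pull.map θ))
  haveI := isIso_realModMap (h := h) (pullMap θ)
  haveI : IsIso (θ ≫ toReal h G) := by rw [toReal_naturality θ]; infer_instance
  exact IsIso.of_isIso_comp_right θ (toReal h G)

end Functorial

set_option maxHeartbeats 300000 in
theorem isFinitePresentation_pull {T T' : TopCat.{u}} {O : Sheaf (Opens.grothendieckTopology T) CommRingCat.{u}}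
    {O' : Sheaf (Opens.grothendieckTopology T') CommRingCat.{u}} (f : ModSite.RMor O' O)
    (hmeet : ∀ U W, f.fn.obj U ⊓ f.fn.obj W ≤ f.fn.obj (U ⊓ W))
    (hcov : ∀ {ι : Type u} (U : ι → Opens T), iSup U = ⊤ → ⨆ i, f.fn.obj (U i) = ⊤)
    (F : ModSite.Mod O) (hF : SheafOfModules.IsFinitePresentation.{u} (R := ModSite.ringSh O) F) :
    SheafOfModules.IsFinitePresentation.{u} (R := ModSite.ringSh O') (f.pull.obj F) := by
  obtain ⟨q, hq⟩ := hF.exists_quasicoherentData
  have hpres : ∀ i, ∃ P : ((ModSite.restr O' (f.fn.obj (q.X i))).obj (f.pull.obj F)).Presentation, P.IsFinite :=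
    fun i => by
      obtain ⟨ι, κ, hι, hκ, s, r, hP⟩ := @exists_isPres T O (q.X i) F (q.presentation i) (hq.isFinite_presentation i)
      have hQ := hP.pull f (q.X i) (hmeet (q.X i))
      exact exists_presentation _ _ _ hQ.rel hQ.gen hQ.relGen
  choose P hP using hpres
  let q' : SheafOfModules.QuasicoherentData.{u} (R := ModSite.ringSh O') (f.pull.obj F) :=
    { I := q.I
      X := fun i => f.fn.obj (q.X i)
      coversTop := (Opens.coversTop_iff _ _).2 (hcov q.X ((Opens.coversTop_iff _ q.X).1 q.coversTop))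
      presentation := P }
  haveI : q'.IsFinitePresentation := by constructor; intro i; exact hP i
  constructor
  exact ⟨q', inferInstance⟩

theorem isIso_of_adjunct {A B C : Type*} [Category A] [Category B] [Category C] {L₁ : A ⥤ B} {R₁ : B ⥤ A}
    (a₁ : L₁ ⊣ R₁) {L₂ : B ⥤ C} {R₂ : C ⥤ B} (a₂ : L₂ ⊣ R₂) {L : A ⥤ C} {R : C ⥤ A} (a : L ⊣ R)
    (i : R ⟶ R₂ ⋙ R₁) (hi : IsIso i) (x : A) (θ : L₂.obj (L₁.obj x) ⟶ L.obj x)
    (hθ : a₁.homEquiv _ _ (a₂.homEquiv _ _ θ) = a.unit.app x ≫ i.app (L.obj x)) : IsIso θ := by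
  refine isIso_of_bijective_precomp θ fun Z => ?_
  have key : ∀ g : L.obj x ⟶ Z, a₁.homEquiv _ _ (a₂.homEquiv _ _ (θ ≫ g)) = a.homEquiv _ _ g ≫ i.app Z := fun g => by
    rw [a₂.homEquiv_naturality_right, a₁.homEquiv_naturality_right, hθ, Category.assoc]
    refine (congrArg (a.unit.app x ≫ ·) (i.naturality g).symm).trans ?_
    rw [a.homEquiv_unit, Category.assoc]
  have hb : Function.Bijective (fun g : L.obj x ⟶ Z => a₁.homEquiv _ _ (a₂.homEquiv _ _ (θ ≫ g))) := by
    simp only [key]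
    have hi : Function.Bijective (fun g : x ⟶ R.obj Z => g ≫ i.app Z) :=
      ⟨fun g g' hg => (cancel_mono (i.app Z)).1 hg, fun g => ⟨g ≫ inv (i.app Z), by simp⟩⟩
    exact hi.comp (a.homEquiv _ _).bijective
  exact ((a₁.homEquiv _ _).bijective.comp (a₂.homEquiv _ _).bijective).of_comp_iff' _ |>.1 hb

theorem unit_complTrans {Z Z' Y : Scheme.{u}} {i : Z ⟶ Z'} {e' : Z' ⟶ Y} {e : Z ⟶ Y} (he : i ≫ e' = e) (F : Y.Modules) :
    (Scheme.Modules.pullbackPushforwardAdjunction e').unit.app F ≫ (Scheme.Modules.pushforward e').map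
      ((Scheme.Modules.pullbackPushforwardAdjunction i).homEquiv _ _
        ((Scheme.Modules.pullbackComp i e' ≪≫ Scheme.Modules.pullbackCongr he).hom.app F)) ≫
      (Scheme.Modules.pushforwardComp i e').hom.app _ ≫ (Scheme.Modules.pushforwardCongr he).hom.app _ =
      (Scheme.Modules.pullbackPushforwardAdjunction e).unit.app F := by
  let ψ := (Scheme.Modules.pullbackComp i e' ≪≫ Scheme.Modules.pullbackCongr he).app F
  have h1 := FFormal7.adjunct_lowerMap (M := F) he.symm (𝟙 ((Scheme.Modules.pullback e').obj F)) ψ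
  have h2 : FFormal7.lowerMap he.symm (𝟙 ((Scheme.Modules.pullback e').obj F)) ψ = 𝟙 _ := by
    subst he
    simp [FFormal7.lowerMap, ψ, Scheme.Modules.pullbackCongr]
  rw [h2] at h1
  simpa [FFormal7.adjunct, Adjunction.homEquiv_unit, ψ] using h1.symm

theorem comp_map_comp {A B C : Type*} [Category A] [Category B] [Category C] (E : B ⥤ A) (L : B ⥤ C) (u : C ⥤ A)
    (c : E ⟶ L ⋙ u) {x : A} {g g' : B} (η : x ⟶ E.obj g) (t : g ⟶ g') {z : C} (p : L.obj g' ⟶ z)
    (q : E.obj g' ⟶ u.obj z) (hq : c.app g' ≫ u.map p = q) :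
    (η ≫ c.app g) ≫ u.map (L.map t ≫ p) = η ≫ E.map t ≫ q := by
  rw [← hq, ← Category.assoc (E.map t), c.naturality]
  simp

theorem sTrans_def {𝔛 : FSch.Sys.{u}} (h : 𝔛.IsFormal) (U : (𝔛.X 0).Opens) (G : ∀ k, (𝔛.X k).Modules)
    (t : ∀ k, G (k + 1) ⟶ (Scheme.Modules.pushforward (𝔛.ι k)).obj (G k)) (k : ℕ) (m : MSec h U G (k + 1)) :
    sTrans h U G t k m = (G k).presheaf.map (homOfLE (𝔛.lvU_le h k U)).op ((t k).app (𝔛.lvU h (k + 1) U) m) := rfl

theorem assoc5 {A : Type*} [Category A] {a b c d e f : A} (p : a ⟶ b) (q : b ⟶ c) (r : c ⟶ d) (s : d ⟶ e)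
    (t : e ⟶ f) : p ≫ q ≫ r ≫ s ≫ t = (p ≫ q ≫ r ≫ s) ≫ t := by
  simp

section Cone

variable {𝔛 : FSch.Sys.{u}} (h : 𝔛.IsFormal) {Y : Scheme.{u}} (p : ∀ n, 𝔛.X n ⟶ Y)
  (hp : ∀ n, 𝔛.ι n ≫ p (n + 1) = p n) (G : ∀ k, (𝔛.X k).Modules)
  (t : ∀ k, G (k + 1) ⟶ (Scheme.Modules.pushforward (𝔛.ι k)).obj (G k)) (F : Y.Modules)
  (η : ∀ k, F ⟶ (Scheme.Modules.pushforward (p k)).obj (G k))
  (hη : ∀ k, η (k + 1) ≫ (Scheme.Modules.pushforward (p (k + 1))).map (t k) ≫
      (Scheme.Modules.pushforwardComp (𝔛.ι k) (p (k + 1))).hom.app _ ≫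
        (Scheme.Modules.pushforwardCongr (hp k)).hom.app _ = η k)

include hη in
theorem cone_succ (k : ℕ) :
    (η (k + 1) ≫ (FSch.schPushCompare 𝔛 h p hp (k + 1)).app _ : (show ModSite.Mod Y.sheaf from F) ⟶ _) ≫
      (FSch.toSchemeMor 𝔛 h p hp).push.map ((FSch.levelSysOf 𝔛 h G t).map (homOfLE (Nat.le_add_right k 1)).op) =
    η k ≫ (FSch.schPushCompare 𝔛 h p hp k).app _ := by
  refine SheafOfModules.hom_ext (PresheafOfModules.hom_ext fun U => ModuleCat.hom_ext (LinearMap.ext fun m => ?_))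
  let z := (η (k + 1)).app U.unop m
  let W := p 0 ⁻¹ᵁ U.unop
  let a : 𝔛.lvU h k W ⟶ 𝔛.ι k ⁻¹ᵁ 𝔛.lvU h (k + 1) W := homOfLE (𝔛.lvU_le h k W)
  let b : 𝔛.lvU h (k + 1) W ⟶ p (k + 1) ⁻¹ᵁ U.unop := homOfLE (FSch.lvU_p 𝔛 h p hp (k + 1) U.unop).ge
  let c : 𝔛.lvU h k W ⟶ p k ⁻¹ᵁ U.unop := homOfLE (FSch.lvU_p 𝔛 h p hp k U.unop).ge
  have h3 := congrArg (fun φ : F ⟶ (Scheme.Modules.pushforward (p k)).obj (G k) => φ.app U.unop m) (hη k)
  refine Eq.trans (levelSysOf_map_app h W G t k ((G (k + 1)).presheaf.map b.op z)) ?_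
  show (G k).presheaf.map a.op ((t k).app (𝔛.lvU h (k + 1) W) ((G (k + 1)).presheaf.map b.op z)) =
    (G k).presheaf.map c.op ((η k).app U.unop m)
  rw [show (t k).app (𝔛.lvU h (k + 1) W) ((G (k + 1)).presheaf.map b.op z) =
    (G k).presheaf.map ((Opens.map (𝔛.ι k).base).map b).op ((t k).app (p (k + 1) ⁻¹ᵁ U.unop) z) from
      PresheafOfModules.naturality_apply (t k).val b.op z]
  rw [← h3]
  refine Eq.trans ?_ (ConcreteCategory.congr_hom ((G k).presheaf.map_comp _ c.op) ((t k).app (p (k + 1) ⁻¹ᵁ U.unop) z))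
  refine Eq.trans (ConcreteCategory.congr_hom ((G k).presheaf.map_comp ((Opens.map (𝔛.ι k).base).map b).op a.op) _).symm ?_
  exact congrArg (fun g => (G k).presheaf.map g ((t k).app (p (k + 1) ⁻¹ᵁ U.unop) z)) (Subsingleton.elim _ _)

/-- The system of inverse images along a family, with given transitions. -/
def familySys (F : Y.Modules) (e : ∀ k, Scheme.Modules.pullback (p (k + 1)) ⋙ Scheme.Modules.pullback (𝔛.ι k) ≅
    Scheme.Modules.pullback (p k)) : FSch.ModSys 𝔛 where
  F k := (Scheme.Modules.pullback (p k)).obj F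
  e k := (e k).app F

omit hη in
theorem cone_succ_sys (F : Y.Modules) (e : ∀ k, Scheme.Modules.pullback (p (k + 1)) ⋙ Scheme.Modules.pullback (𝔛.ι k) ≅
    Scheme.Modules.pullback (p k))
    (he : ∀ k, e k = Scheme.Modules.pullbackComp (𝔛.ι k) (p (k + 1)) ≪≫ Scheme.Modules.pullbackCongr (hp k)) (k : ℕ) :
    ((Scheme.Modules.pullbackPushforwardAdjunction (p (k + 1))).unit.app F ≫
      (FSch.schPushCompare 𝔛 h p hp (k + 1)).app _ : (show ModSite.Mod Y.sheaf from F) ⟶ _) ≫
      (FSch.toSchemeMor 𝔛 h p hp).push.map ((FSch.levelSysOf 𝔛 h (familySys p F e).F (familySys p F e).toPush).map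
        (homOfLE (Nat.le_add_right k 1)).op) =
    (Scheme.Modules.pullbackPushforwardAdjunction (p k)).unit.app F ≫ (FSch.schPushCompare 𝔛 h p hp k).app _ :=
  cone_succ h p hp (familySys p F e).F (familySys p F e).toPush F
    (fun k => (Scheme.Modules.pullbackPushforwardAdjunction (p k)).unit.app F) (fun k => by
      show _ ≫ (Scheme.Modules.pushforward (p (k + 1))).map
        ((Scheme.Modules.pullbackPushforwardAdjunction (𝔛.ι k)).homEquiv _ _ ((e k).hom.app F)) ≫ _ = _
      rw [he k]; exact unit_complTrans (hp k) F) k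

end Cone

variable {X : Scheme.{u}} [IsLocallyNoetherian X] {𝓘 : X.IdealSheafData}
  (h : (FSch.completionAlong X 𝓘).IsFormal)

/-- The comparison of direct images to the scheme. -/
abbrev schCmp (k : ℕ) : Scheme.Modules.pushforward (FSch.completionToX X 𝓘 k) ⟶
    (FSch.levelMor (FSch.completionAlong X 𝓘) h k).push ⋙ (complMor h).push :=
  FSch.schPushCompare (FSch.completionAlong X 𝓘) h (FSch.completionToX X 𝓘) (FSch.completionToX_comm X 𝓘) k

theorem isIso_schCmp (k : ℕ) : IsIso (schCmp h k) := by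
  suffices H : ∀ G, IsIso ((schCmp h k).app G) from NatIso.isIso_of_isIso_app _
  intro G
  let R := ModSite.ringSh X.sheaf
  let φ : @Quiver.Hom (SheafOfModules.{u} R) _ _ _ := (schCmp h k).app G
  haveI : IsIso ((SheafOfModules.forget R ⋙ PresheafOfModules.toPresheaf _).map φ) := by
    rw [NatTrans.isIso_iff_isIso_app]
    intro U
    exact G.presheaf.map_isIso (eqToHom (congrArg op (FSch.lvU_p (FSch.completionAlong X 𝓘) h (FSch.completionToX X 𝓘)
      (FSch.completionToX_comm X 𝓘) k U.unop)))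
  exact isIso_of_reflects_iso φ (SheafOfModules.forget R ⋙ PresheafOfModules.toPresheaf _)

variable (F : X.Modules)

/-- The components of the comparison. -/
abbrev comparisonπ (k : ℕ) : (show ModSite.Mod X.sheaf from F) ⟶ (complMor h).push.obj
    ((FSch.levelMor (FSch.completionAlong X 𝓘) h k).push.obj ((FSch.complMod 𝓘 F).F k)) :=
  (Scheme.Modules.pullbackPushforwardAdjunction (FSch.completionToX X 𝓘 k)).unit.app F ≫ (schCmp h k).app _

theorem comparisonπ_succ (k : ℕ) : comparisonπ h F (k + 1) ≫ (complMor h).push.map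
    ((FSch.levelSysOf (FSch.completionAlong X 𝓘) h (FSch.complMod 𝓘 F).F (FSch.complMod 𝓘 F).toPush).map
      (homOfLE (Nat.le_add_right k 1)).op) = comparisonπ h F k :=
  cone_succ_sys h (FSch.completionToX X 𝓘) (FSch.completionToX_comm X 𝓘) F (FSch.complTransIso 𝓘)
    (fun k => by rw [FSch.complTransIso]) k

/-- The comparison map to the direct image of the completion. -/
def comparisonAdj : (show ModSite.Mod X.sheaf from F) ⟶ (complMor h).push.obj ((FSch.complMod 𝓘 F).realMod h) :=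
  haveI := (complMor h).adj.rightAdjoint_preservesLimits
  (isLimitOfPreserves (complMor h).push (limit.isLimit
    (FSch.levelSysOf (FSch.completionAlong X 𝓘) h (FSch.complMod 𝓘 F).F (FSch.complMod 𝓘 F).toPush))).lift
    { pt := (show ModSite.Mod X.sheaf from F)
      π := NatTrans.ofOpSequence (fun k => comparisonπ h F k) fun k =>
        (Category.id_comp _).trans (comparisonπ_succ h F k).symm }

theorem comparisonAdj_proj (k : ℕ) : comparisonAdj h F ≫ (complMor h).push.map
    (FSch.realProj (FSch.completionAlong X 𝓘) h (FSch.complMod 𝓘 F).F (FSch.complMod 𝓘 F).toPush k) =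
      comparisonπ h F k :=
  haveI := (complMor h).adj.rightAdjoint_preservesLimits
  (isLimitOfPreserves (complMor h).push (limit.isLimit
    (FSch.levelSysOf (FSch.completionAlong X 𝓘) h (FSch.complMod 𝓘 F).F (FSch.complMod 𝓘 F).toPush))).fac _ (op k)

/-- The comparison map from the inverse image. -/
def comparison : (complMor h).pull.obj F ⟶ (FSch.complMod 𝓘 F).realMod h :=
  ((complMor h).adj.homEquiv _ _).symm (comparisonAdj h F)

theorem isCohF_complMor_pull (hF : Coh.IsCoh F) :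
    FSch.IsCohF (FSch.completionAlong X 𝓘) h ((complMor h).pull.obj F) := by
  haveI := hF.1
  refine isFinitePresentation_pull (complMor h) (fun U W x hx => hx) (fun {ι} U hU => ?_) F
    (QCoh.isFinitePresentation_of_isFiniteType F hF.2)
  refine eq_top_iff.2 fun x _ => Opens.mem_iSup.2 ?_
  have h0 : FSch.completionToX X 𝓘 0 x ∈ iSup U := by rw [hU]; trivial
  obtain ⟨i, hi⟩ := Opens.mem_iSup.1 h0
  exact ⟨i, hi⟩

/-- The inverse image to the completion is the completion. -/
theorem isIso_comparison (hN : (FSch.completionAlong X 𝓘).IsLocNoethFormal) (hF : Coh.IsCoh F)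
    (h𝔐 : (FSch.complMod 𝓘 F).IsCoh) : IsIso (comparison h F) := by
  haveI := isCohF_complMor_pull h F hF
  haveI : FSch.IsCohF (FSch.completionAlong X 𝓘) h ((FSch.complMod 𝓘 F).realMod h) := isCohF_realMod hN h𝔐
  haveI : ∀ k, IsIso ((FSch.levelMor (FSch.completionAlong X 𝓘) h k).pull.map (comparison h F)) := by
    intro k
    let L := FSch.levelMor (FSch.completionAlong X 𝓘) h k
    let π := FSch.realProj (FSch.completionAlong X 𝓘) h (FSch.complMod 𝓘 F).F (FSch.complMod 𝓘 F).toPush k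
    have e1 : L.pull.map (comparison h F) ≫ (L.adj.homEquiv _ _).symm π =
        (L.adj.homEquiv _ _).symm (comparison h F ≫ π) := (L.adj.homEquiv_naturality_left_symm _ π).symm
    haveI : IsIso ((L.adj.homEquiv _ _).symm (comparison h F ≫ π)) := by
      refine isIso_of_adjunct (complMor h).adj L.adj
        (Scheme.Modules.pullbackPushforwardAdjunction (FSch.completionToX X 𝓘 k)) (schCmp h k) (isIso_schCmp h k) F _ ?_
      refine (congrArg ((complMor h).adj.homEquiv _ _) ((L.adj.homEquiv _ _).apply_symm_apply _)).trans ?_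
      refine ((complMor h).adj.homEquiv_naturality_right _ _).trans ?_
      exact (congrArg (· ≫ _) ((complMor h).adj.homEquiv _ _ |>.apply_symm_apply _)).trans (comparisonAdj_proj h F k)
    haveI : IsIso (L.pull.map (comparison h F) ≫ (L.adj.homEquiv _ _).symm π) := e1 ▸ inferInstance
    exact @IsIso.of_isIso_comp_right _ _ _ _ _ (L.pull.map (comparison h F)) ((L.adj.homEquiv _ _).symm π)
      (isIso_adjoint_realProj (h := h) hN h𝔐 k) this
  exact isIso_of_isIso_pull hN _

end GrothLib.FMod7
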