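import Groth.Agent.Lib.FMod7.Pulls
import Groth.Agent.Lib.FMod7.QLoc

/-!
# A coherent module is the module of the system of its inverse images
-/

set_option autoImplicit false
set_option linter.style.haveILetI false
set_option linter.unusedSectionVars false
universe u

open CategoryTheory CategoryTheory.Limits AlgebraicGeometry TopologicalSpace Opposite

noncomputable section

namespace GrothLib.FMod7

variable {𝔛 : FSch.Sys.{u}} {h : 𝔛.IsFormal} {F : FSch.ModF 𝔛 h}

theorem exists_isPres_affine [hF : FSch.IsCohF 𝔛 h F] {U : (𝔛.X 0).Opens} {x : 𝔛.X 0} (hx : x ∈ U) :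
    ∃ (W : (𝔛.X 0).Opens), IsAffineOpen W ∧ x ∈ W ∧ W ≤ U ∧ ∃ (ι κ : Type u) (_ : Fintype ι) (_ : Fintype κ)
      (s : ι → ModSite.sect F W) (r : κ → ι → Sec 𝔛 h W), IsPres F W s r := by
  obtain ⟨q, hq⟩ := SheafOfModules.IsFinitePresentation.exists_quasicoherentData (M := F)
  obtain ⟨i, hi⟩ := Opens.mem_iSup.1 (((Opens.coversTop_iff _ q.X).1 q.coversTop).symm ▸ Opens.mem_top x)
  obtain ⟨W, hW, hxW, hWU⟩ := exists_isAffineOpen_mem_and_subset (x := x) (U := U ⊓ q.X i) ⟨hx, hi⟩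
  obtain ⟨ι, κ, hι, hκ, s, r, hP⟩ := @exists_isPres (𝔛.X 0).carrier (𝔛.Osh h) (q.X i) F (q.presentation i)
    (hq.isFinite_presentation i)
  exact ⟨W, hW, hxW, fun z hz => (hWU hz).1, ι, κ, hι, hκ, _, _,
    @IsPres.res _ _ _ _ _ hι _ _ _ hP W (fun z hz => (hWU hz).2)⟩

theorem levelMor_meet (k : ℕ) (U W : (𝔛.X 0).Opens) :
    (FSch.levelMor 𝔛 h k).fn.obj U ⊓ (FSch.levelMor 𝔛 h k).fn.obj W ≤ (FSch.levelMor 𝔛 h k).fn.obj (U ⊓ W) :=
  fun _ hx => hx

theorem isCoh_pullSys [FSch.IsCohF 𝔛 h F] : (pullSys h F).IsCoh := by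
  classical
  intro k
  choose W hW hxW _ ι κ hι hκ s r hP using fun x : 𝔛.X 0 => exists_isPres_affine (F := F) (U := ⊤) (x := x) trivial
  have hpres : ∀ x, ∃ P : ((ModSite.restr (𝔛.X k).sheaf ((FSch.levelMor 𝔛 h k).fn.obj (W x))).obj
      ((FSch.levelMor 𝔛 h k).pull.obj F)).Presentation, P.IsFinite := fun x =>
    letI := hι x
    letI := hκ x
    have hQ := (hP x).pull (FSch.levelMor 𝔛 h k) (W x) (levelMor_meet k (W x))
    exists_presentation _ _ _ hQ.rel hQ.gen hQ.relGen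
  choose P hPfin using hpres
  let M : SheafOfModules.{u} (ModSite.ringSh (𝔛.X k).sheaf) := (FSch.levelMor 𝔛 h k).pull.obj F
  let q : SheafOfModules.QuasicoherentData.{u} (R := ModSite.ringSh (𝔛.X k).sheaf) M :=
    { I := 𝔛.X 0
      X := fun x => (FSch.levelMor 𝔛 h k).fn.obj (W x)
      coversTop := (Opens.coversTop_iff _ _).2 (eq_top_iff.2 fun y _ =>
        Opens.mem_iSup.2 ⟨𝔛.gInv h k y, hxW _⟩)
      presentation := P }
  haveI : q.IsFinitePresentation := by constructor; intro x; exact hPfin x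
  have hM : SheafOfModules.IsFinitePresentation.{u} (R := ModSite.ringSh (𝔛.X k).sheaf) M := by
    constructor
    exact ⟨q, inferInstance⟩
  exact ⟨(inferInstance : SheafOfModules.IsQuasicoherent.{u} (R := ModSite.ringSh (𝔛.X k).sheaf) M),
    (inferInstance : SheafOfModules.IsFiniteType.{u} (R := ModSite.ringSh (𝔛.X k).sheaf) M)⟩

variable (hN : 𝔛.IsLocNoethFormal) {W : (𝔛.X 0).Opens} (hW : IsAffineOpen W)
  {ι κ : Type u} [Fintype ι] [Fintype κ] {s : ι → ModSite.sect F W} {r : κ → ι → Sec 𝔛 h W}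

variable (F) in
/-- The comparison on sections. -/
abbrev ηSec (U : (𝔛.X 0).Opens) (m : ModSite.sect F U) : Mods h U (pullSys h F) := (toReal h F).val.app (op U) m

theorem mProj_ηSec (U : (𝔛.X 0).Opens) (m : ModSite.sect F U) (k : ℕ) :
    mProj h U (pullSys h F) k (ηSec F U m) = psec (FSch.levelMor 𝔛 h k) m :=
  congrArg (fun φ : F ⟶ (FSch.levelMor 𝔛 h k).push.obj ((pullSys h F).F k) => φ.val.app (op U) m)
    (toReal_realProj h F k)

theorem mProj_add' (U : (𝔛.X 0).Opens) (k : ℕ) (x y : Mods h U (pullSys h F)) :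
    mProj h U (pullSys h F) k (x + y) = mProj h U (pullSys h F) k x + mProj h U (pullSys h F) k y :=
  sProj_add h U _ _ k x y

section
variable [FSch.IsCohF 𝔛 h F]
include hN hW

theorem span_ηSec (hP : IsPres F W s r) :
    Submodule.span (Sec 𝔛 h W) (Set.range fun i => ηSec F W (s i)) = ⊤ := by
  have h𝔐 : (pullSys h F).IsCoh := isCoh_pullSys
  haveI := moduleFinite_mods (h := h) hN hW h𝔐
  haveI := (h𝔐 0).1
  let f := AddMonoidHom.mk' (mProj h W (pullSys h F) 0) (mProj_add' W 0)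
  refine eq_top_iff.2 (Submodule.le_of_le_smul_of_le_jacobson_bot Module.Finite.fg_top
    (secIdeal_le_jacobson hN hW) fun x _ => ?_)
  suffices H : ∀ z : MSec h W (pullSys h F).F 0, ∃ y ∈ Submodule.span (Sec 𝔛 h W)
      (Set.range fun i => ηSec F W (s i)), f y = z by
    obtain ⟨y, hy, hyx⟩ := H (f x)
    refine Submodule.mem_sup.2 ⟨y, hy, x - y, ?_, add_sub_cancel _ _⟩
    have h0 : mProj h W (pullSys h F) 0 (x - y) = 0 := (map_sub f x y).trans (sub_eq_zero.2 hyx.symm)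
    have := (mProj_eq_zero_iff hN hW h𝔐 0 _).1 h0
    simpa using this
  intro z
  have hQ := hP.pull (FSch.levelMor 𝔛 h 0) W (levelMor_meet 0 W)
  have hz : z ∈ Submodule.span (LSec 𝔛 h W 0)
      (Set.range fun i => (show MSec h W (pullSys h F).F 0 from psec (FSch.levelMor 𝔛 h 0) (s i))) :=
    mem_span_of_locally (FFormal7.isAffineOpen_lvU 𝔛 h hW 0) ((pullSys h F).F 0) _ z fun y hy => by
      obtain ⟨V, hV, hyV, hm⟩ := hQ.gen _ le_rfl z y hy
      exact ⟨V, hV, hyV, hm⟩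
  refine Submodule.span_induction ?_ ⟨0, zero_mem _, map_zero f⟩ ?_ ?_ hz
  · rintro _ ⟨i, rfl⟩
    exact ⟨_, Submodule.subset_span ⟨i, rfl⟩, mProj_ηSec W (s i) 0⟩
  · rintro a b _ _ ⟨y, hy, rfl⟩ ⟨y', hy', rfl⟩
    exact ⟨y + y', add_mem hy hy', map_add f y y'⟩
  · rintro c b _ ⟨y, hy, rfl⟩
    obtain ⟨a, rfl⟩ := proj_surjective hN hW 0 c
    exact ⟨a • y, Submodule.smul_mem _ _ hy, sProj_smul h W _ _ 0 a y⟩

theorem ηSec_surjective (hP : IsPres F W s r) : Function.Surjective (ηSec F W) := fun x => by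
  obtain ⟨c, hc⟩ := (Submodule.mem_span_range_iff_exists_fun _).1
    ((span_ηSec hN hW hP).symm ▸ Submodule.mem_top : x ∈ _)
  refine ⟨∑ i, c i • s i, ?_⟩
  refine Eq.trans ((map_sum ((toReal h F).val.app (op W)).hom _ _).trans (Finset.sum_congr rfl fun i _ => ?_)) hc
  exact ((toReal h F).val.app (op W)).hom.map_smul (c i) (s i)

theorem sum_eq_zero_of_ηSec (hP : IsPres F W s r) (a : ι → Sec 𝔛 h W)
    (ha : ηSec F W (∑ i, a i • s i) = 0) : ∑ i, a i • s i = 0 := by
  classical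
  haveI := isNoetherianRing_Sec (h := h) hN hW
  set T := Submodule.span (Sec 𝔛 h W) (Set.range r)
  suffices hT : a ∈ T by
    obtain ⟨c, rfl⟩ := (Submodule.mem_span_range_iff_exists_fun _).1 hT
    calc ∑ i, (∑ k, c k • r k) i • s i = ∑ i, ∑ k, (c k * r k i) • s i := by
          simp [Finset.sum_smul]
      _ = ∑ k, c k • ∑ i, r k i • s i := by
          rw [Finset.sum_comm]
          simp [Finset.smul_sum, mul_smul]
      _ = 0 := Finset.sum_eq_zero fun k _ => (congrArg (c k • ·) (hP.rel k)).trans (smul_zero _)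
  suffices key : ∀ k, ∃ b ∈ T, ∀ i, proj 𝔛 h W k (a i - b i) = 0 by
    have hb := Ideal.iInf_pow_smul_eq_bot_of_le_jacobson (secIdeal 𝔛 h W) (M := (ι → Sec 𝔛 h W) ⧸ T)
      (secIdeal_le_jacobson hN hW)
    have : T.mkQ a ∈ (⨅ n : ℕ, secIdeal 𝔛 h W ^ n • ⊤ : Submodule (Sec 𝔛 h W) ((ι → Sec 𝔛 h W) ⧸ T)) := by
      refine Submodule.mem_iInf _ |>.2 fun n => ?_
      obtain ⟨b, hbT, hba⟩ := key n
      have e : T.mkQ a = ∑ i, (a i - b i) • T.mkQ (Pi.single i 1) := by
        rw [← sub_zero (T.mkQ a), ← (Submodule.Quotient.mk_eq_zero T).2 hbT]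
        show T.mkQ a - T.mkQ b = _
        rw [← map_sub]
        conv_lhs => rw [pi_eq_sum_univ (a - b)]
        rw [map_sum]
        refine Finset.sum_congr rfl fun i _ => ?_
        rw [map_smul]
        congr 2
        funext j
        simp [Pi.single_apply, eq_comm]
      rw [e]
      refine Submodule.sum_mem _ fun i _ => Submodule.smul_mem_smul ?_ Submodule.mem_top
      exact Ideal.pow_le_pow_right (Nat.le_succ n) ((ker_proj hN hW n).le (hba i))
    rw [hb] at this
    exact (Submodule.Quotient.mk_eq_zero T).1 this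
  intro k
  have hQ := hP.pull (FSch.levelMor 𝔛 h k) W (levelMor_meet k W)
  let V := (FSch.levelMor 𝔛 h k).fn.obj W
  letI : Module ((𝔛.X k).sheaf.obj.obj (op V)) (ModSite.sect ((FSch.levelMor 𝔛 h k).pull.obj F) V) :=
    moduleSect (O := (𝔛.X k).sheaf) ((FSch.levelMor 𝔛 h k).pull.obj F) V
  let u := ((FSch.levelMor 𝔛 h k).adj.unit.app F).val.app (op W)
  have h0 : ∑ i, (pfun (FSch.levelMor 𝔛 h k) (a i)) •
      psec (FSch.levelMor 𝔛 h k) (s i) = 0 := by
    refine Eq.trans ?_ ((mProj_ηSec W (∑ i, a i • s i) k).symm.trans ((congrArg (mProj h W (pullSys h F) k) ha).trans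
      (map_zero (AddMonoidHom.mk' (mProj h W (pullSys h F) k) (mProj_add' W k)))))
    exact (Eq.trans (map_sum u.hom _ _) (Finset.sum_congr rfl fun i _ => psec_smul (FSch.levelMor 𝔛 h k) _ _)).symm
  have hmem : (fun i => proj 𝔛 h W k (a i)) ∈ Submodule.span (LSec 𝔛 h W k)
      (Set.range fun j i => proj 𝔛 h W k (r j i)) :=
    mem_span_pi_of_locally (FFormal7.isAffineOpen_lvU 𝔛 h hW k) _ _ fun y hy => by
      have h1 := hQ.relGen V le_rfl (fun i => pfun (FSch.levelMor 𝔛 h k) (a i)) (by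
        refine Eq.trans (Finset.sum_congr rfl fun i _ => ?_) h0
        exact congrArg _ (sres_id _)) y hy
      obtain ⟨V', hV', hyV, hm⟩ := h1
      exact ⟨V', hV', hyV, hm⟩
  obtain ⟨c, hc⟩ := (Submodule.mem_span_range_iff_exists_fun _).1 hmem
  choose d hd using fun j => proj_surjective hN hW k (c j)
  refine ⟨∑ j, d j • r j, Submodule.sum_mem _ fun j _ => Submodule.smul_mem _ _ (Submodule.subset_span ⟨j, rfl⟩),
    fun i => ?_⟩
  rw [map_sub, ← congrFun hc i, Finset.sum_apply, Finset.sum_apply, map_sum, sub_eq_zero]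
  exact Finset.sum_congr rfl fun j _ => by simp [hd]

end

variable [FSch.IsCohF 𝔛 h F]
include hN

theorem ηSec_injective (U : (𝔛.X 0).Opens) (m : ModSite.sect F U) (hm : ηSec F U m = 0) : m = 0 := by
  refine sect_ext F m 0 fun y hy => ?_
  obtain ⟨W, hW, hyW, hWU, ι, κ, hι, hκ, s, r, hP⟩ := exists_isPres_affine (F := F) hy
  obtain ⟨V, hVW, hyV, hV⟩ := hP.gen W le_rfl (sres F hWU m) y hyW
  obtain ⟨W', hW', hyW', hW'V'⟩ := exists_isAffineOpen_mem_and_subset (x := y) (U := V) hyV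
  have hW'V : W' ≤ V := hW'V'
  have hW'U : W' ≤ U := hW'V.trans (hVW.trans hWU)
  refine ⟨W', hW'U, hyW', ?_⟩
  obtain ⟨c, hc⟩ := (Submodule.mem_span_range_iff_exists_fun _).1 hV
  have hP' := hP.res (hW'V.trans hVW)
  have e : sres F hW'U m = ∑ i, ores (𝔛.Osh h) hW'V (c i) • sres F (hW'V.trans hVW) (s i) := by
    rw [← sres_sres (M := F) hWU (hW'V.trans hVW) m, ← sres_sres (M := F) hVW hW'V (sres F hWU m), ← hc, sres_sum]
    exact Finset.sum_congr rfl fun i _ => congrArg _ (sres_sres _ _ _)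
  have h0 : ηSec F W' (sres F hW'U m) = 0 :=
    (PresheafOfModules.naturality_apply (toReal h F).val (homOfLE hW'U).op m).trans
      ((congrArg (mRes hW'U) hm).trans (map_zero (((pullSys h F).realMod h).val.map (homOfLE hW'U).op).hom))
  rw [e] at h0 ⊢
  exact (sum_eq_zero_of_ηSec hN hW' hP' _ h0).trans (map_zero (F.val.map (homOfLE hW'U).op).hom).symm

/-- A coherent module is the module of the system of its inverse images. -/
theorem isIso_toReal : IsIso (toReal h F) := by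
  haveI : Mono (toReal h F) := Preadditive.mono_of_cancel_zero _ fun {Z} g hg => hom_ext_basis fun U _ z =>
    ηSec_injective hN U _ (congrArg (fun φ : Z ⟶ (pullSys h F).realMod h => φ.val.app (op U) z) hg)
  haveI : Sheaf.IsLocallySurjective ((SheafOfModules.toSheaf _).map (toReal h F)) := by
    constructor
    intro U z y hy
    obtain ⟨W, hW, hyW, hWU, ι, κ, hι, hκ, s, r, hP⟩ := exists_isPres_affine (F := F) hy
    obtain ⟨x, hx⟩ := ηSec_surjective hN hW hP (((pullSys h F).realMod h).val.map (homOfLE hWU).op z)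
    exact ⟨W, homOfLE hWU, ⟨x, hx⟩, hyW⟩
  haveI : Epi (toReal h F) := (SheafOfModules.toSheaf _).epi_of_epi_map inferInstance
  exact isIso_of_mono_of_epi _

end GrothLib.FMod7
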