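import Groth.Agent.Lib.FMod7.Push

/-!
# The projection of the module of a coherent system is the quotient to the level
-/

set_option autoImplicit false
set_option linter.style.haveILetI false
set_option linter.unusedSectionVars false
universe u

open CategoryTheory CategoryTheory.Limits AlgebraicGeometry TopologicalSpace Opposite

noncomputable section

namespace GrothLib.FMod7

theorem isIso_of_bijective_precomp {C : Type*} [Category C] {X Y : C} (f : X ⟶ Y)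
    (hf : ∀ Z : C, Function.Bijective (fun g : Y ⟶ Z => f ≫ g)) : IsIso f := by
  obtain ⟨g, hg⟩ := (hf X).2 (𝟙 X)
  refine ⟨g, hg, (hf Y).1 ?_⟩
  show f ≫ g ≫ f = f ≫ 𝟙 Y
  rw [← Category.assoc, show f ≫ g = 𝟙 X from hg, Category.id_comp, Category.comp_id]

variable {𝔛 : FSch.Sys.{u}} {h : 𝔛.IsFormal} {𝔐 : FSch.ModSys 𝔛}
variable (hN : 𝔛.IsLocNoethFormal) (h𝔐 : 𝔐.IsCoh)
include hN h𝔐

theorem epi_realProj (k : ℕ) : Epi (FSch.realProj 𝔛 h 𝔐.F 𝔐.toPush k) := by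
  haveI : Sheaf.IsLocallySurjective ((SheafOfModules.toSheaf _).map (FSch.realProj 𝔛 h 𝔐.F 𝔐.toPush k)) := by
    constructor
    intro U z y hy
    obtain ⟨W, hW, hyW, hWU⟩ := exists_isAffineOpen_mem_and_subset (x := y) (U := U) hy
    obtain ⟨x, hx⟩ := mProj_surjective (h := h) hN hW h𝔐 k
      (((FSch.levelMor 𝔛 h k).push.obj (𝔐.F k)).val.map (homOfLE (show W ≤ U from hWU)).op z)
    exact ⟨W, homOfLE hWU, ⟨x, hx⟩, hyW⟩
  exact (SheafOfModules.toSheaf _).epi_of_epi_map inferInstance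

theorem kills_kernel (k : ℕ) {G : (𝔛.X k).Modules} (φ : 𝔐.realMod h ⟶ (FSch.levelMor 𝔛 h k).push.obj G)
    {U : (𝔛.X 0).Opens} (hU : IsAffineOpen U) (x : Mods h U 𝔐) (hx : mProj h U 𝔐 k x = 0) :
    (φ.val.app (op U)).hom x = 0 := by
  refine Submodule.smul_induction_on ((mProj_eq_zero_iff (h := h) hN hU h𝔐 k x).1 hx) (fun a ha z _ => ?_)
    (fun z w hz hw => (map_add (φ.val.app (op U)).hom z w).trans ((congr_arg₂ (· + ·) hz hw).trans (add_zero _)))
  refine ((φ.val.app (op U)).hom.map_smul a z).trans ?_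
  have h0 : proj 𝔛 h U k a = 0 := (ker_proj (h := h) hN hU k).ge ha
  show (proj 𝔛 h U k a) • (show Γ(G, 𝔛.lvU h k U) from (φ.val.app (op U)).hom z) = 0
  rw [h0, zero_smul]

theorem exists_desc (k : ℕ) {G : (𝔛.X k).Modules} (φ : 𝔐.realMod h ⟶ (FSch.levelMor 𝔛 h k).push.obj G) :
    ∃ g : 𝔐.F k ⟶ G, FSch.realProj 𝔛 h 𝔐.F 𝔐.toPush k ≫ (FSch.levelMor 𝔛 h k).push.map g = φ := by
  haveI := epi_realProj (h := h) hN h𝔐 k
  let π := FSch.realProj 𝔛 h 𝔐.F 𝔐.toPush k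
  let K : kernel π ⟶ FSch.ModSys.realMod h 𝔐 := kernel.ι π
  have h0 : K ≫ φ = 0 := hom_ext_basis fun U hU z => kills_kernel hN h𝔐 k φ hU ((K.val.app (op U)).hom z)
    (congrArg (fun f : kernel π ⟶ (FSch.levelMor 𝔛 h k).push.obj (𝔐.F k) => (f.val.app (op U)).hom z)
      (kernel.condition π))
  exact ⟨unpush h hN (Abelian.epiDesc π φ h0), (congrArg (π ≫ ·) (push_unpush h hN _)).trans (Abelian.comp_epiDesc π φ h0)⟩

theorem proj_comp_injective (k : ℕ) {G : (𝔛.X k).Modules} {g g' : 𝔐.F k ⟶ G}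
    (he : FSch.realProj 𝔛 h 𝔐.F 𝔐.toPush k ≫ (FSch.levelMor 𝔛 h k).push.map g =
      FSch.realProj 𝔛 h 𝔐.F 𝔐.toPush k ≫ (FSch.levelMor 𝔛 h k).push.map g') : g = g' :=
  haveI := epi_realProj (h := h) hN h𝔐 k
  push_map_injective h ((cancel_epi _).1 he)

/-- The adjoint of the projection is an isomorphism. -/
theorem isIso_adjoint_realProj (k : ℕ) :
    IsIso (((FSch.levelMor 𝔛 h k).adj.homEquiv _ _).symm (FSch.realProj 𝔛 h 𝔐.F 𝔐.toPush k)) := by
  let adj := (FSch.levelMor 𝔛 h k).adj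
  let π := FSch.realProj 𝔛 h 𝔐.F 𝔐.toPush k
  have key : ∀ (G : (𝔛.X k).Modules) (g : 𝔐.F k ⟶ G),
      adj.homEquiv _ _ ((adj.homEquiv _ _).symm π ≫ g) = π ≫ (FSch.levelMor 𝔛 h k).push.map g := fun G g =>
    (adj.homEquiv_naturality_right _ g).trans
      (congrArg (· ≫ (FSch.levelMor 𝔛 h k).push.map g) ((adj.homEquiv _ _).apply_symm_apply π))
  refine isIso_of_bijective_precomp _ fun G => ⟨fun g g' he => ?_, fun v => ?_⟩
  · exact proj_comp_injective (h := h) hN h𝔐 k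
      ((key G g).symm.trans ((congrArg (adj.homEquiv _ _) he).trans (key G g')))
  · obtain ⟨g, hg⟩ := exists_desc (h := h) hN h𝔐 k (adj.homEquiv _ _ v)
    exact ⟨g, (adj.homEquiv _ _).injective ((key G g).trans hg)⟩

/-- Morphisms of the modules come from morphisms of the systems. -/
theorem realModMap_bijective {𝔑 : FSch.ModSys 𝔛} :
    Function.Bijective (fun φ : 𝔐 ⟶ 𝔑 => FSch.ModSys.realModMap h φ) := by
  refine ⟨fun φ ψ he => FSch.ModSys.Hom.ext (funext fun k => proj_comp_injective (h := h) hN h𝔐 k ?_), fun θ => ?_⟩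
  · exact (FSch.realLimMap_realProj 𝔛 h φ.app (FSch.ModSys.Hom.toPush_comm φ) k).symm.trans
      ((congrArg (· ≫ FSch.realProj 𝔛 h 𝔑.F 𝔑.toPush k) he).trans
        (FSch.realLimMap_realProj 𝔛 h ψ.app (FSch.ModSys.Hom.toPush_comm ψ) k))
  choose g hg using fun k => exists_desc (h := h) hN h𝔐 k (θ ≫ FSch.realProj 𝔛 h 𝔑.F 𝔑.toPush k)
  have hsec : ∀ k (U : (𝔛.X 0).Opens) (x : Mods h U 𝔐),
      (g k).app (𝔛.lvU h k U) (mProj h U 𝔐 k x) = mProj h U 𝔑 k ((θ.val.app (op U)).hom x) :=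
    fun k U x => congrArg (fun f : 𝔐.realMod h ⟶ (FSch.levelMor 𝔛 h k).push.obj (𝔑.F k) =>
      (f.val.app (op U)).hom x) (hg k)
  have hcomm : ∀ k, 𝔐.toPush k ≫ (Scheme.Modules.pushforward (𝔛.ι k)).map (g k) = g (k + 1) ≫ 𝔑.toPush k := by
    intro k
    refine push_map_injective h (hom_ext_basis fun U hU m => ?_)
    obtain ⟨x, rfl⟩ := mProj_surjective (h := h) hN hU h𝔐 (k + 1) m
    haveI : IsIso ((𝔑.F k).presheaf.map (homOfLE (𝔛.lvU_le h k U)).op) :=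
      (𝔑.F k).presheaf.map_isIso (eqToHom (congrArg op (𝔛.lvU_succ h k U)))
    refine (ConcreteCategory.bijective_of_isIso ((𝔑.F k).presheaf.map (homOfLE (𝔛.lvU_le h k U)).op)).1 ?_
    show (𝔑.F k).presheaf.map _ ((g k).app _ ((𝔐.toPush k).app _ (mProj h U 𝔐 (k + 1) x))) =
      mTrans h U 𝔑 k ((g (k + 1)).app _ (mProj h U 𝔐 (k + 1) x))
    rw [hsec (k + 1) U x]
    refine Eq.trans ?_ (sTrans_sProj h U _ _ k _).symm
    refine Eq.trans ?_ ((congrArg ((g k).app (𝔛.lvU h k U)) (sTrans_sProj h U _ _ k x)).trans (hsec k U x))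
    exact (PresheafOfModules.naturality_apply (g k).val (homOfLE (𝔛.lvU_le h k U)).op _).symm
  let φ : 𝔐 ⟶ 𝔑 := ⟨g, fun k => by
    apply ((Scheme.Modules.pullbackPushforwardAdjunction (𝔛.ι k)).homEquiv _ _).injective
    rw [Adjunction.homEquiv_naturality_left, Adjunction.homEquiv_naturality_right]
    exact (hcomm k).symm⟩
  refine ⟨φ, ?_⟩
  refine limit.hom_ext fun j => ?_
  exact (FSch.realLimMap_realProj 𝔛 h φ.app (FSch.ModSys.Hom.toPush_comm φ) j.unop).trans (hg j.unop)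

end GrothLib.FMod7
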