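import Groth.Agent.Lib.FMod7.PullPres
import Groth.Agent.Lib.FMod7.Proj

/-!
# The system of inverse images of a module to the levels
-/

set_option autoImplicit false
set_option linter.style.haveILetI false
universe u

open CategoryTheory CategoryTheory.Limits AlgebraicGeometry TopologicalSpace Opposite

noncomputable section

namespace GrothLib.FMod7

theorem unit_comp_leftAdjointUniq {A B C : Type*} [Category A] [Category B] [Category C] {L₁ : A ⥤ B} {R₁ : B ⥤ A}
    (a₁ : L₁ ⊣ R₁) {L₂ : B ⥤ C} {R₂ : C ⥤ B} (a₂ : L₂ ⊣ R₂) {L : A ⥤ C} {R : C ⥤ A} (a : L ⊣ R)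
    (i : R₂ ⋙ R₁ ≅ R) (x : A) :
    a₁.unit.app x ≫ R₁.map (a₂.homEquiv _ _ ((((a₁.comp a₂).ofNatIsoRight i).leftAdjointUniq a).hom.app x)) ≫
      i.hom.app (L.obj x) = a.unit.app x := by
  have h := Adjunction.unit_leftAdjointUniq_hom_app ((a₁.comp a₂).ofNatIsoRight i) a x
  have hu : ((a₁.comp a₂).ofNatIsoRight i).unit.app x =
      a₁.unit.app x ≫ R₁.map (a₂.unit.app (L₁.obj x)) ≫ i.hom.app (L₂.obj (L₁.obj x)) := by
    simp [Adjunction.ofNatIsoRight, Adjunction.comp]
  rw [hu, Category.assoc, Category.assoc, ← i.hom.naturality] at h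
  simpa [Adjunction.homEquiv_unit] using h

variable {𝔛 : FSch.Sys.{u}} (h : 𝔛.IsFormal)

/-- The two comparisons of direct images as an isomorphism. -/
def pushCompareIso (k : ℕ) :
    Scheme.Modules.pushforward (𝔛.ι k) ⋙ (FSch.levelMor 𝔛 h (k + 1)).push ≅ (FSch.levelMor 𝔛 h k).push where
  hom := FSch.pushCompare 𝔛 h k
  inv := FSch.pushCompareInv 𝔛 h k
  hom_inv_id := NatTrans.ext (funext (FSch.pushCompare_pushCompareInv 𝔛 h k))
  inv_hom_id := NatTrans.ext (funext (FSch.pushCompareInv_pushCompare 𝔛 h k))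

/-- The transition isomorphism of inverse images. -/
def pullTransIso (k : ℕ) :
    (FSch.levelMor 𝔛 h (k + 1)).pull ⋙ Scheme.Modules.pullback (𝔛.ι k) ≅ (FSch.levelMor 𝔛 h k).pull :=
  (((FSch.levelMor 𝔛 h (k + 1)).adj.comp (Scheme.Modules.pullbackPushforwardAdjunction (𝔛.ι k))).ofNatIsoRight
    (pushCompareIso h k)).leftAdjointUniq (FSch.levelMor 𝔛 h k).adj

/-- The system of inverse images. -/
def pullSys (F : FSch.ModF 𝔛 h) : FSch.ModSys 𝔛 where
  F k := (FSch.levelMor 𝔛 h k).pull.obj F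
  e k := (pullTransIso h k).app F

theorem unit_toPush (F : FSch.ModF 𝔛 h) (k : ℕ) :
    (FSch.levelMor 𝔛 h (k + 1)).adj.unit.app F ≫ ((FSch.levelMor 𝔛 h (k + 1)).push.map ((pullSys h F).toPush k) ≫
      (FSch.pushCompare 𝔛 h k).app ((pullSys h F).F k)) = (FSch.levelMor 𝔛 h k).adj.unit.app F :=
  unit_comp_leftAdjointUniq (FSch.levelMor 𝔛 h (k + 1)).adj (Scheme.Modules.pullbackPushforwardAdjunction (𝔛.ι k))
    (FSch.levelMor 𝔛 h k).adj (pushCompareIso h k) F

/-- The comparison with the module of the inverse images. -/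
def toReal (F : FSch.ModF 𝔛 h) : F ⟶ (pullSys h F).realMod h :=
  limit.lift (FSch.levelSysOf 𝔛 h (pullSys h F).F (pullSys h F).toPush)
    { pt := F
      π := NatTrans.ofOpSequence (fun k => (FSch.levelMor 𝔛 h k).adj.unit.app F) fun k => by
        rw [FSch.levelSysOf_map_succ]
        exact (Category.id_comp _).trans (unit_toPush h F k).symm }

theorem toReal_realProj (F : FSch.ModF 𝔛 h) (k : ℕ) :
    toReal h F ≫ FSch.realProj 𝔛 h (pullSys h F).F (pullSys h F).toPush k = (FSch.levelMor 𝔛 h k).adj.unit.app F :=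
  limit.lift_π _ (op k)

end GrothLib.FMod7
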