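import Groth.Agent.Lib.LocFac25.Basic
import Mathlib.Topology.Sheaves.Sheaf

/-!
# Presentations over an open from sections
-/

set_option linter.style.haveILetI false
universe u

open CategoryTheory Limits Opposite TopologicalSpace

noncomputable section

namespace GrothLib.FMod7

open GrothLib.LocFac25

variable {T : TopCat.{u}} {O : Sheaf (Opens.grothendieckTopology T) CommRingCat.{u}}

instance moduleSect (M : ModSite.Mod O) (V : Opens T) : Module (O.obj.obj (op V)) (ModSite.sect M V) :=
  inferInstanceAs (Module ((ModSite.ringSh O).obj.obj (op V)) (M.val.obj (op V)))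

/-- Restriction of a section of a module. -/
abbrev sres (M : ModSite.Mod O) {V W : Opens T} (h : W ≤ V) (m : ModSite.sect M V) : ModSite.sect M W :=
  M.val.map (homOfLE h).op m

/-- Restriction of a function. -/
abbrev ores (O : Sheaf (Opens.grothendieckTopology T) CommRingCat.{u}) {V W : Opens T} (h : W ≤ V)
    (a : O.obj.obj (op V)) : O.obj.obj (op W) :=
  O.obj.map (homOfLE h).op a

variable {U : Opens T}

theorem mem_over_of_pointwise {W : Over U} (S : Sieve W)
    (h : ∀ x ∈ W.left, ∃ (V : Opens T) (k : V ≤ W.left), x ∈ V ∧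
      S (Over.homMk (homOfLE k) : Over.mk (homOfLE k ≫ W.hom) ⟶ W)) :
    S ∈ ((Opens.grothendieckTopology T).over U) W := by
  show Sieve.overEquiv W S ∈ (Opens.grothendieckTopology T) W.left
  intro x hx
  obtain ⟨V, k, hxV, hS⟩ := h x hx
  exact ⟨V, homOfLE k, (Sieve.overEquiv_iff S (homOfLE k)).2 hS, hxV⟩

theorem evAt_eq_res {M : ModSite.Mod O} (W : Over U) (α : SheafOfModules.unit _ ⟶ (ModSite.restr O U).obj M) :
    (evAt (W := W) α : ModSite.sect M W.left) = sres M W.hom.le (ev α : ModSite.sect M U) := by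
  refine (map_evAt α (Over.homMk W.hom (Category.comp_id _) : W ⟶ Over.mk (𝟙 U))).symm.trans ?_
  rfl

theorem app_one {N : ModSite.Mod (O.over U)} (W : Over U) (α : SheafOfModules.unit _ ⟶ N)
    (c : (ModSite.ringSh (O.over U)).obj.obj (op W)) :
    (α.val.app (op W)).hom (c : (SheafOfModules.unit (ModSite.ringSh (O.over U))).val.obj (op W)) =
      c • evAt (W := W) α := by
  refine Eq.trans ?_ ((α.val.app (op W)).hom.map_smul c (1 : (ModSite.ringSh (O.over U)).obj.obj (op W)))
  exact congrArg (fun r => (α.val.app (op W)).hom r)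
    (mul_one (M := (ModSite.ringSh (O.over U)).obj.obj (op W)) _).symm

theorem app_unit {M : ModSite.Mod O} (W : Over U) (α : SheafOfModules.unit _ ⟶ (ModSite.restr O U).obj M)
    (c : O.obj.obj (op W.left)) :
    ((α.val.app (op W)).hom (c : (SheafOfModules.unit (ModSite.ringSh (O.over U))).val.obj (op W)) :
        ModSite.sect M W.left) = c • sres M W.hom.le (ev α : ModSite.sect M U) :=
  (app_one W α c).trans (congrArg (fun z : ModSite.sect M W.left => c • z) (evAt_eq_res W α))

theorem app_unit' (W : Over U) (R : SheafOfModules.unit (ModSite.ringSh (O.over U)) ⟶ SheafOfModules.unit _)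
    (c : O.obj.obj (op W.left)) :
    ((R.val.app (op W)).hom (c : (SheafOfModules.unit (ModSite.ringSh (O.over U))).val.obj (op W)) :
        O.obj.obj (op W.left)) = c * ores O W.hom.le (ev R : O.obj.obj (op U)) :=
  (app_one W R c).trans (congrArg (fun z : O.obj.obj (op W.left) => c * z)
    ((map_evAt R (Over.homMk W.hom (Category.comp_id _) : W ⟶ Over.mk (𝟙 U))).symm.trans rfl))

variable (M : ModSite.Mod O) {ι : Type u} [Fintype ι]

theorem app_desc {s : ι → (SheafOfModules.unit _ ⟶ (ModSite.restr O U).obj M)} (W : Over U)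
    (pr : ι → (SheafOfModules.free (R := ModSite.ringSh (O.over U)) ι ⟶ SheafOfModules.unit _))
    (hpr : ∑ j, pr j ≫ SheafOfModules.ιFree j = 𝟙 _)
    (x : (SheafOfModules.free (R := ModSite.ringSh (O.over U)) ι).val.obj (op W)) :
    (((Cofan.IsColimit.desc (SheafOfModules.isColimitFreeCofan ι) s).val.app (op W)).hom x :
        ModSite.sect M W.left) =
      ∑ j, (show O.obj.obj (op W.left) from ((pr j).val.app (op W)).hom x) • sres M W.hom.le (ev (s j) : ModSite.sect M U) := by
  let g := Cofan.IsColimit.desc (SheafOfModules.isColimitFreeCofan ι) s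
  have h1 : g = ∑ j, pr j ≫ s j := by
    refine ((Category.id_comp g).symm.trans (congrArg (· ≫ g) hpr.symm)).trans ?_
    refine (Preadditive.sum_comp _ _ _).trans ?_
    refine Finset.sum_congr rfl fun j _ => ?_
    exact (Category.assoc _ _ _).trans (congrArg (pr j ≫ ·) (Cofan.IsColimit.fac _ _ _))
  show (g.val.app (op W)).hom x = _
  rw [h1]
  refine (map_sum (AddMonoidHom.mk' (fun φ : SheafOfModules.free (R := ModSite.ringSh (O.over U)) ι ⟶
    (ModSite.restr O U).obj M => (φ.val.app (op W)).hom x) fun _ _ => rfl) _ _).trans ?_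
  exact Finset.sum_congr rfl fun j _ => app_unit W (s j) _

variable {κ : Type u} [Fintype κ]

theorem epi_desc (s : ι → ModSite.sect M U) (α : ι → (SheafOfModules.unit _ ⟶ (ModSite.restr O U).obj M))
    (hα : ∀ i, ev (α i) = s i)
    (hgen : ∀ (V : Opens T) (hV : V ≤ U) (m : ModSite.sect M V), ∀ x ∈ V, ∃ (W : Opens T) (hW : W ≤ V),
      x ∈ W ∧ sres M hW m ∈ Submodule.span (O.obj.obj (op W)) (Set.range fun i => sres M (hW.trans hV) (s i))) :
    Epi (Cofan.IsColimit.desc (SheafOfModules.isColimitFreeCofan ι) α) := by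
  let g := Cofan.IsColimit.desc (SheafOfModules.isColimitFreeCofan ι) α
  haveI : Sheaf.IsLocallySurjective ((SheafOfModules.toSheaf _).map g) := by
    constructor
    intro W m
    refine mem_over_of_pointwise _ fun x hx => ?_
    obtain ⟨V, k, hxV, hm⟩ := hgen W.left W.hom.le m x hx
    refine ⟨V, k, hxV, ?_⟩
    obtain ⟨c, hc⟩ := (Submodule.mem_span_range_iff_exists_fun _).1 hm
    let W' : Over U := Over.mk (homOfLE k ≫ W.hom)
    refine ⟨∑ i, ((SheafOfModules.ιFree i).val.app (op W')).hom
      (c i : (SheafOfModules.unit (ModSite.ringSh (O.over U))).val.obj (op W')), ?_⟩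
    show (g.val.app (op W')).hom _ = sres M k m
    refine (map_sum (g.val.app (op W')).hom _ _).trans (Eq.trans ?_ hc)
    refine Finset.sum_congr rfl fun i _ => ?_
    refine Eq.trans ?_ ((app_unit W' (α i) (c i)).trans (by rw [hα i]))
    exact congrArg (fun φ : SheafOfModules.unit _ ⟶ (ModSite.restr O U).obj M => (φ.val.app (op W')).hom _)
      (Cofan.IsColimit.fac (SheafOfModules.isColimitFreeCofan ι) α i)
  exact (SheafOfModules.toSheaf _).epi_of_epi_map inferInstance

set_option maxHeartbeats 1600000 in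
theorem epi_lift_desc (s : ι → ModSite.sect M U) (r : κ → ι → O.obj.obj (op U))
    (α : ι → (SheafOfModules.unit _ ⟶ (ModSite.restr O U).obj M)) (hα : ∀ i, ev (α i) = s i)
    (R : κ → ι → (SheafOfModules.unit (ModSite.ringSh (O.over U)) ⟶ SheafOfModules.unit _))
    (hR : ∀ k i, ev (R k i) = r k i)
    (hrel : ∀ (V : Opens T) (hV : V ≤ U) (a : ι → O.obj.obj (op V)), ∑ i, a i • sres M hV (s i) = 0 →
      ∀ x ∈ V, ∃ (W : Opens T) (hW : W ≤ V), x ∈ W ∧ (fun i => ores O hW (a i)) ∈
        Submodule.span (O.obj.obj (op W)) (Set.range fun k i => ores O (hW.trans hV) (r k i)))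
    (hfg : Cofan.IsColimit.desc (SheafOfModules.isColimitFreeCofan κ) (fun k => ∑ i, R k i ≫ SheafOfModules.ιFree i) ≫
      Cofan.IsColimit.desc (SheafOfModules.isColimitFreeCofan ι) α = 0) :
    Epi (kernel.lift _ _ hfg) := by
  classical
  obtain ⟨pr, hpr⟩ := exists_proj (O := O) (V := U) ι
  let g : SheafOfModules.free ι ⟶ (ModSite.restr O U).obj M :=
    Cofan.IsColimit.desc (SheafOfModules.isColimitFreeCofan ι) α
  let β : κ → (SheafOfModules.unit _ ⟶ SheafOfModules.free (R := ModSite.ringSh (O.over U)) ι) := fun k =>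
    ∑ i, R k i ≫ SheafOfModules.ιFree i
  let f : SheafOfModules.free κ ⟶ SheafOfModules.free (R := ModSite.ringSh (O.over U)) ι :=
    Cofan.IsColimit.desc (SheafOfModules.isColimitFreeCofan κ) β
  haveI : Sheaf.IsLocallySurjective ((SheafOfModules.toSheaf _).map (kernel.lift g f hfg)) := by
    constructor
    intro W z
    refine mem_over_of_pointwise _ fun x hx => ?_
    let a : ι → O.obj.obj (op W.left) := fun i => ((pr i).val.app (op W)).hom (((kernel.ι g).val.app (op W)).hom z)
    have ha : ∑ i, a i • sres M W.hom.le (s i) = 0 := by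
      have h0 : (g.val.app (op W)).hom (((kernel.ι g).val.app (op W)).hom z) = 0 :=
        congrArg (fun φ : kernel g ⟶ (ModSite.restr O U).obj M => (φ.val.app (op W)).hom z) (kernel.condition g)
      refine Eq.trans ?_ ((app_desc M W pr hpr _).symm.trans h0)
      exact Finset.sum_congr rfl fun i _ => by rw [hα i]
    obtain ⟨V, k, hxV, hm⟩ := hrel W.left W.hom.le a ha x hx
    refine ⟨V, k, hxV, ?_⟩
    obtain ⟨c, hc⟩ := (Submodule.mem_span_range_iff_exists_fun _).1 hm
    let W' : Over U := Over.mk (homOfLE k ≫ W.hom)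
    let w : W' ⟶ W := Over.homMk (homOfLE k)
    refine ⟨∑ j, ((SheafOfModules.ιFree j).val.app (op W')).hom
      (c j : (SheafOfModules.unit (ModSite.ringSh (O.over U))).val.obj (op W')), ?_⟩
    have hinj : Function.Injective ((kernel.ι g).val.app (op W')).hom :=
      (ModuleCat.mono_iff_injective ((kernel.ι g).val.app (op W'))).1
        (inferInstanceAs (Mono ((SheafOfModules.evaluation _ (op W')).map (kernel.ι g))))
    apply hinj
    have e1 : ((kernel.ι g).val.app (op W')).hom ((kernel g).val.map w.op z) =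
        (SheafOfModules.free (R := ModSite.ringSh (O.over U)) ι).val.map w.op
          (((kernel.ι g).val.app (op W)).hom z) :=
      PresheafOfModules.naturality_apply (kernel.ι g).val w.op z
    refine Eq.trans ?_ e1.symm
    have e2 : ∀ (b : (SheafOfModules.free (R := ModSite.ringSh (O.over U)) κ).val.obj (op W')),
        ((kernel.ι g).val.app (op W')).hom (((kernel.lift g f hfg).val.app (op W')).hom b) =
          (f.val.app (op W')).hom b := fun b =>
      congrArg (fun φ : SheafOfModules.free κ ⟶ SheafOfModules.free ι => (φ.val.app (op W')).hom b)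
        (kernel.lift_ι g f hfg)
    refine (e2 _).trans ?_
    refine (map_sum (f.val.app (op W')).hom _ _).trans ?_
    let ιF := fun (i : ι) => ((SheafOfModules.ιFree (R := ModSite.ringSh (O.over U)) i).val.app (op W')).hom
    have hfac : ∀ j, ∀ b, (f.val.app (op W')).hom (((SheafOfModules.ιFree j).val.app (op W')).hom b) =
        ((β j).val.app (op W')).hom b := fun j b =>
      congrArg (fun φ : SheafOfModules.unit _ ⟶ SheafOfModules.free (R := ModSite.ringSh (O.over U)) ι =>
        (φ.val.app (op W')).hom b) (Cofan.IsColimit.fac (SheafOfModules.isColimitFreeCofan κ) β j)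
    have hβ : ∀ j, ((β j).val.app (op W')).hom (c j : (SheafOfModules.unit (ModSite.ringSh (O.over U))).val.obj (op W')) =
        ∑ i, ιF i ((c j • fun i => ores O (k.trans W.hom.le) (r j i)) i) := fun j => by
      refine (map_sum (AddMonoidHom.mk'
        (fun φ : SheafOfModules.unit _ ⟶ SheafOfModules.free (R := ModSite.ringSh (O.over U)) ι =>
          (φ.val.app (op W')).hom (c j : (SheafOfModules.unit (ModSite.ringSh (O.over U))).val.obj (op W')))
            fun _ _ => rfl) _ _).trans ?_
      refine Finset.sum_congr rfl fun i _ => ?_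
      exact congrArg (ιF i) ((app_unit' W' (R j i) (c j)).trans (by rw [hR j i]; rfl))
    have hy : ∀ y, y = ∑ i, ιF i (((pr i).val.app (op W')).hom y) :=
      fun y => (congrArg (fun φ : SheafOfModules.free (R := ModSite.ringSh (O.over U)) ι ⟶ _ =>
        (φ.val.app (op W')).hom y) hpr.symm).trans (map_sum (AddMonoidHom.mk'
          (fun φ : SheafOfModules.free (R := ModSite.ringSh (O.over U)) ι ⟶ SheafOfModules.free ι =>
            (φ.val.app (op W')).hom y) fun _ _ => rfl) _ _)
    refine (Finset.sum_congr rfl fun j _ => (hfac j _).trans (hβ j)).trans ?_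
    refine Finset.sum_comm.trans (Eq.trans ?_ (hy _).symm)
    refine Finset.sum_congr rfl fun i _ => ?_
    refine (map_sum (ιF i) _ _).symm.trans (congrArg (ιF i) ?_)
    refine Eq.trans ?_ (PresheafOfModules.naturality_apply (pr i).val w.op _).symm
    exact (Finset.sum_apply i Finset.univ fun j => c j • fun i => ores O (k.trans W.hom.le) (r j i)).symm.trans
      (congrFun hc i)
  have hE : Epi ((SheafOfModules.toSheaf _).map (kernel.lift g f hfg)) := inferInstance
  exact (SheafOfModules.toSheaf _).epi_of_epi_map hE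

/-- A presentation over an open from generators and relations that generate locally. -/
theorem exists_presentation (s : ι → ModSite.sect M U) (r : κ → ι → O.obj.obj (op U))
    (hr : ∀ k, ∑ i, r k i • s i = 0)
    (hgen : ∀ (V : Opens T) (hV : V ≤ U) (m : ModSite.sect M V), ∀ x ∈ V, ∃ (W : Opens T) (hW : W ≤ V),
      x ∈ W ∧ sres M hW m ∈ Submodule.span (O.obj.obj (op W)) (Set.range fun i => sres M (hW.trans hV) (s i)))
    (hrel : ∀ (V : Opens T) (hV : V ≤ U) (a : ι → O.obj.obj (op V)), ∑ i, a i • sres M hV (s i) = 0 →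
      ∀ x ∈ V, ∃ (W : Opens T) (hW : W ≤ V), x ∈ W ∧ (fun i => ores O hW (a i)) ∈
        Submodule.span (O.obj.obj (op W)) (Set.range fun k i => ores O (hW.trans hV) (r k i))) :
    ∃ P : ((ModSite.restr O U).obj M).Presentation, P.IsFinite := by
  classical
  choose α hα using fun i => ev_surjective (O := O) (M := (ModSite.restr O U).obj M) (V := U) (s i)
  choose R hR using fun k i => ev_surjective (O := O) (M := SheafOfModules.unit _) (V := U) (r k i)
  let g : SheafOfModules.free ι ⟶ (ModSite.restr O U).obj M :=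
    Cofan.IsColimit.desc (SheafOfModules.isColimitFreeCofan ι) α
  let β : κ → (SheafOfModules.unit _ ⟶ SheafOfModules.free (R := ModSite.ringSh (O.over U)) ι) := fun k =>
    ∑ i, R k i ≫ SheafOfModules.ιFree i
  let f : SheafOfModules.free κ ⟶ SheafOfModules.free (R := ModSite.ringSh (O.over U)) ι :=
    Cofan.IsColimit.desc (SheafOfModules.isColimitFreeCofan κ) β
  have hfg : f ≫ g = 0 := by
    refine Cofan.IsColimit.hom_ext (SheafOfModules.isColimitFreeCofan κ) _ _ fun k => ?_
    refine ((Cofan.IsColimit.fac_assoc _ _ _ _).trans ?_).trans comp_zero.symm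
    rw [Preadditive.sum_comp]
    have e : ∀ i, (R k i ≫ SheafOfModules.ιFree i) ≫ g = R k i ≫ α i := fun i =>
      (Category.assoc _ _ _).trans (congrArg (R k i ≫ ·) (Cofan.IsColimit.fac _ _ _))
    simp only [e]
    refine ev_injective ((evAt_sum _ _).trans ?_)
    refine Eq.trans ?_ ((hr k).trans rfl)
    exact Finset.sum_congr rfl fun i _ => (evAt_comp _ _).trans (congr_arg₂ (fun (a : O.obj.obj (op U)) (b : ModSite.sect M U) => a • b) (hR k i) (hα i))
  haveI : Epi g := epi_desc M s α hα hgen
  have hex : Epi (kernel.lift g f hfg) := epi_lift_desc M s r α hα R hR hrel hfg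
  have hS : (ShortComplex.mk f g hfg).Exact := (ShortComplex.exact_iff_epi_kernel_lift _).2 hex
  exact ⟨SheafOfModules.presentationOfIsCokernelFree f g hfg hS.gIsCokernel,
    ⟨⟨‹Fintype ι› |> fun _ => Finite.of_fintype ι⟩, ⟨‹Fintype κ› |> fun _ => Finite.of_fintype κ⟩⟩⟩

end GrothLib.FMod7
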