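import Groth.Agent.Lib.FMod7.Gen
import Groth.Agent.Lib.FMod7.Over

/-!
# The module of a coherent system is coherent
-/

set_option autoImplicit false
set_option linter.style.haveILetI false
set_option linter.unusedSectionVars false
universe u

open CategoryTheory CategoryTheory.Limits AlgebraicGeometry TopologicalSpace Opposite

noncomputable section

namespace GrothLib.FMod7

variable {𝔛 : FSch.Sys.{u}} {h : 𝔛.IsFormal} {U : (𝔛.X 0).Opens} {𝔐 : FSch.ModSys 𝔛}

theorem mRes_mRes {V W : (𝔛.X 0).Opens} (hVU : V ≤ U) (hWV : W ≤ V) (x : Mods h U 𝔐) :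
    mRes hWV (mRes hVU x) = mRes (hWV.trans hVU) x :=
  ((𝔐.realMod h).val.map_comp_apply (homOfLE hVU).op (homOfLE hWV).op x).symm

theorem rRes_rRes {V W : (𝔛.X 0).Opens} (hVU : V ≤ U) (hWV : W ≤ V) (a : Sec 𝔛 h U) :
    rRes hWV (rRes hVU a) = rRes (hWV.trans hVU) a :=
  (ConcreteCategory.congr_hom ((𝔛.Osh h).obj.map_comp (homOfLE hVU).op (homOfLE hWV).op) a).symm

theorem mRes_sum {V : (𝔛.X 0).Opens} (hVU : V ≤ U) {ι : Type*} [Fintype ι] (a : ι → Sec 𝔛 h U)
    (m : ι → Mods h U 𝔐) : mRes hVU (∑ i, a i • m i) = ∑ i, rRes hVU (a i) • mRes hVU (m i) :=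
  (map_sum ((𝔐.realMod h).val.map (homOfLE hVU).op).hom _ _).trans
    (Finset.sum_congr rfl fun i _ => PresheafOfModules.map_smul _ _ _ _)

variable (hN : 𝔛.IsLocNoethFormal) (h𝔐 : 𝔐.IsCoh)
include hN h𝔐

/-- A presentation of the module of a coherent system over an affine open. -/
theorem exists_presentation_realMod (hU : IsAffineOpen U) :
    ∃ P : ((ModSite.restr (𝔛.Osh h) U).obj (𝔐.realMod h)).Presentation, P.IsFinite := by
  classical
  haveI := isNoetherianRing_Sec (h := h) hN hU
  haveI := moduleFinite_mods (h := h) hN hU h𝔐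
  obtain ⟨n, m, hm⟩ := Submodule.fg_iff_exists_fin_generating_family.1
    (Module.Finite.fg_top (R := Sec 𝔛 h U) (M := Mods h U 𝔐))
  obtain ⟨l, r, hr⟩ := Submodule.fg_iff_exists_fin_generating_family.1
    (IsNoetherian.noetherian (LinearMap.ker (Fintype.linearCombination (Sec 𝔛 h U) m)))
  have hr' : ∀ k, ∑ i, r k i • m i = 0 := fun k => by
    have hk : r k ∈ LinearMap.ker (Fintype.linearCombination (Sec 𝔛 h U) m) := hr ▸ Submodule.subset_span ⟨k, rfl⟩
    rwa [LinearMap.mem_ker, Fintype.linearCombination_apply] at hk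
  refine exists_presentation (𝔐.realMod h) (ι := ULift.{u} (Fin n)) (κ := ULift.{u} (Fin l))
    (fun i => m i.down) (fun k i => r k.down i.down) (fun k => ?_) (fun V hV x y hy => ?_) (fun V hV a ha y hy => ?_)
  · exact (Equiv.ulift.sum_comp fun i => r k.down i • m i).trans (hr' k.down)
  · obtain ⟨W, hW, hyW, hWV⟩ := exists_isAffineOpen_mem_and_subset (x := y) (U := V) hy
    refine ⟨W, hWV, hyW, ?_⟩
    have htop := span_mRes_eq_top (h := h) hN hU hW (show W ≤ U from le_trans hWV hV) h𝔐 hm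
    refine Submodule.span_mono ?_ (htop.symm ▸ Submodule.mem_top : mRes hWV x ∈ _)
    rintro _ ⟨i, rfl⟩
    exact ⟨⟨i⟩, rfl⟩
  · obtain ⟨W, hW, hyW, hWV⟩ := exists_isAffineOpen_mem_and_subset (x := y) (U := V) hy
    refine ⟨W, hWV, hyW, ?_⟩
    have hWU : W ≤ U := le_trans hWV hV
    let b : Fin n → Sec 𝔛 h W := fun i => rRes hWV (a ⟨i⟩)
    have hb : ∑ i, b i • mRes hWU (m i) = 0 := by
      have h1 := congrArg (mRes (𝔐 := 𝔐) (show W ≤ V from hWV)) ((Equiv.ulift.symm.sum_comp fun i : ULift.{u} (Fin n) =>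
        a i • sres (𝔐.realMod h) hV (m i.down)).trans ha)
      refine Eq.trans ?_ (h1.trans (map_zero ((𝔐.realMod h).val.map (homOfLE (show W ≤ V from hWV)).op).hom))
      refine Eq.trans ?_ (mRes_sum (show W ≤ V from hWV) (fun i : Fin n => a ⟨i⟩) fun i => mRes hV (m i)).symm
      exact Finset.sum_congr rfl fun i _ => congrArg (b i • ·) (mRes_mRes hV hWV (m i)).symm
    have h2 := relations_mRes (h := h) hN hU hW hWU h𝔐 hm b hb
    let L : (Fin n → Sec 𝔛 h W) →ₗ[Sec 𝔛 h W] (ULift.{u} (Fin n) → Sec 𝔛 h W) :=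
      LinearMap.funLeft _ _ ULift.down
    have h3 : Submodule.span (Sec 𝔛 h W) ((fun c : Fin n → Sec 𝔛 h U => fun i => rRes hWU (c i)) ''
        {c | ∑ i, c i • m i = 0}) ≤ Submodule.comap L (Submodule.span (Sec 𝔛 h W)
          (Set.range fun (k : ULift.{u} (Fin l)) (i : ULift.{u} (Fin n)) => rRes hWU (r k.down i.down))) := by
      rw [Submodule.span_le]
      rintro _ ⟨c, hc, rfl⟩
      have hc' : c ∈ Submodule.span (Sec 𝔛 h U) (Set.range r) := by
        rw [hr, LinearMap.mem_ker, Fintype.linearCombination_apply]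
        exact hc
      obtain ⟨d, rfl⟩ := (Submodule.mem_span_range_iff_exists_fun _).1 hc'
      have e : L (fun i => rRes hWU ((∑ k, d k • r k) i)) =
          ∑ k, rRes hWU (d k) • fun i : ULift.{u} (Fin n) => rRes hWU (r k i.down) := by
        funext i
        simp [L, map_sum]
      rw [SetLike.mem_coe, Submodule.mem_comap, e]
      exact Submodule.sum_mem _ fun k _ => Submodule.smul_mem _ _ (Submodule.subset_span ⟨⟨k⟩, rfl⟩)
    exact h3 h2

/-- **The module of a coherent system is coherent.** -/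
theorem isCohF_realMod : FSch.IsCohF 𝔛 h (𝔐.realMod h) := by
  choose P hP using fun U : (𝔛.X 0).affineOpens => exists_presentation_realMod (h := h) hN h𝔐 U.2
  let q : SheafOfModules.QuasicoherentData.{u} (R := ModSite.ringSh (𝔛.Osh h)) (𝔐.realMod h) :=
    { I := (𝔛.X 0).affineOpens
      X := fun U => U.1
      coversTop := (Opens.coversTop_iff _ fun U : (𝔛.X 0).affineOpens => U.1).2 (iSup_affineOpens_eq_top _)
      presentation := P }
  haveI : q.IsFinitePresentation := by constructor; intro i; exact hP i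
  constructor
  exact ⟨q, inferInstance⟩

end GrothLib.FMod7
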