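import Groth.Agent.Lib.FMod7.Over
import Groth.Agent.Lib.PullLoc25.ExactFlat

/-!
# Generators and relations of a module over an open
-/

set_option autoImplicit false
set_option linter.style.haveILetI false
universe u

open CategoryTheory CategoryTheory.Limits Opposite TopologicalSpace

noncomputable section

namespace GrothLib.FMod7

open GrothLib.LocFac25

variable {T : TopCat.{u}} {O : Sheaf (Opens.grothendieckTopology T) CommRingCat.{u}} {U : Opens T}

/-- Sections over an arrow into `U` of a module over `U`. -/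
abbrev osect (N : ModSite.Mod (O.over U)) (W : Over U) : Type u := N.val.obj (op W)

instance moduleOsect (N : ModSite.Mod (O.over U)) (W : Over U) : Module (O.obj.obj (op W.left)) (osect N W) :=
  inferInstanceAs (Module ((ModSite.ringSh (O.over U)).obj.obj (op W)) (N.val.obj (op W)))

/-- The terminal arrow. -/
abbrev otop (U : Opens T) : Over U := Over.mk (𝟙 U)

theorem pointwise_of_mem_over {W : Over U} (S : Sieve W) (hS : S ∈ ((Opens.grothendieckTopology T).over U) W)
    {x : T} (hx : x ∈ W.left) : ∃ (V : Opens T) (k : V ≤ W.left), x ∈ V ∧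
      S (Over.homMk (homOfLE k) : Over.mk (homOfLE k ≫ W.hom) ⟶ W) := by
  obtain ⟨V, f, hf, hxV⟩ := (show Sieve.overEquiv W S ∈ (Opens.grothendieckTopology T) W.left from hS) x hx
  exact ⟨V, f.le, hxV, (Sieve.overEquiv_iff S f).1 hf⟩

theorem ev_comp {M N : ModSite.Mod (O.over U)} (α : SheafOfModules.unit _ ⟶ M) (φ : M ⟶ N) :
    ev (α ≫ φ) = (φ.val.app (op (otop U))).hom (ev α) := rfl

variable {ι κ : Type u} [Fintype ι]

/-- `M` is presented over `U` by generators `s` and relations `r`. -/
structure IsPres (M : ModSite.Mod O) (U : Opens T) (s : ι → ModSite.sect M U) (r : κ → ι → O.obj.obj (op U)) :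
    Prop where
  rel : ∀ k, ∑ i, r k i • s i = 0
  gen : ∀ (V : Opens T) (hV : V ≤ U) (m : ModSite.sect M V), ∀ x ∈ V, ∃ (W : Opens T) (hW : W ≤ V),
      x ∈ W ∧ sres M hW m ∈ Submodule.span (O.obj.obj (op W)) (Set.range fun i => sres M (hW.trans hV) (s i))
  relGen : ∀ (V : Opens T) (hV : V ≤ U) (a : ι → O.obj.obj (op V)), ∑ i, a i • sres M hV (s i) = 0 →
      ∀ x ∈ V, ∃ (W : Opens T) (hW : W ≤ V), x ∈ W ∧ (fun i => ores O hW (a i)) ∈
        Submodule.span (O.obj.obj (op W)) (Set.range fun k i => ores O (hW.trans hV) (r k i))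

variable {M : ModSite.Mod O} {s : ι → ModSite.sect M U} {r : κ → ι → O.obj.obj (op U)}

theorem sres_sres {V W W' : Opens T} (h : W ≤ V) (h' : W' ≤ W) (m : ModSite.sect M V) :
    sres M h' (sres M h m) = sres M (h'.trans h) m :=
  (M.val.map_comp_apply (homOfLE h).op (homOfLE h').op m).symm

theorem sres_id {V : Opens T} (m : ModSite.sect M V) : sres M (le_refl V) m = m :=
  ConcreteCategory.congr_hom (M.val.presheaf.map_id _) m

theorem ores_ores {V W W' : Opens T} (h : W ≤ V) (h' : W' ≤ W) (a : O.obj.obj (op V)) :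
    ores O h' (ores O h a) = ores O (h'.trans h) a :=
  (ConcreteCategory.congr_hom (O.obj.map_comp (homOfLE h).op (homOfLE h').op) a).symm

theorem sres_sum {V W : Opens T} (h : W ≤ V) {α : Type*} [Fintype α] (a : α → O.obj.obj (op V))
    (m : α → ModSite.sect M V) : sres M h (∑ i, a i • m i) = ∑ i, ores O h (a i) • sres M h (m i) :=
  (map_sum (M.val.map (homOfLE h).op).hom _ _).trans
    (Finset.sum_congr rfl fun _ _ => PresheafOfModules.map_smul _ _ _ _)

/-- Presentations restrict to smaller opens. -/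
theorem IsPres.res (hP : IsPres M U s r) {U' : Opens T} (h : U' ≤ U) :
    IsPres M U' (fun i => sres M h (s i)) fun k i => ores O h (r k i) where
  rel k := (sres_sum h (r k) s).symm.trans ((congrArg (sres M h) (hP.rel k)).trans (map_zero (M.val.map _).hom))
  gen V hV m x hx := by
    obtain ⟨W, hW, hxW, hm⟩ := hP.gen V (hV.trans h) m x hx
    exact ⟨W, hW, hxW, by simpa only [sres_sres] using hm⟩
  relGen V hV a ha x hx := by
    obtain ⟨W, hW, hxW, hm⟩ := hP.relGen V (hV.trans h) a (by simpa only [sres_sres] using ha) x hx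
    exact ⟨W, hW, hxW, by simpa only [ores_ores] using hm⟩

/-- The map out of a free module. -/
def fdesc {N : ModSite.Mod (O.over U)} {α : Type u} (ν : α → (SheafOfModules.unit _ ⟶ N)) :
    SheafOfModules.free (R := ModSite.ringSh (O.over U)) α ⟶ N :=
  Cofan.IsColimit.desc (SheafOfModules.isColimitFreeCofan α) ν

theorem ιFree_fdesc {N : ModSite.Mod (O.over U)} {α : Type u} (ν : α → (SheafOfModules.unit _ ⟶ N)) (i : α) :
    SheafOfModules.ιFree i ≫ fdesc ν = ν i :=
  Cofan.IsColimit.fac (SheafOfModules.isColimitFreeCofan α) ν i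

theorem free_ext {N : ModSite.Mod (O.over U)} {α : Type u}
    {f g : SheafOfModules.free (R := ModSite.ringSh (O.over U)) α ⟶ N}
    (h : ∀ i, SheafOfModules.ιFree i ≫ f = SheafOfModules.ιFree i ≫ g) : f = g :=
  Cofan.IsColimit.hom_ext (SheafOfModules.isColimitFreeCofan α) _ _ h

theorem fdesc_comp_eq_zero [Fintype κ] {N : ModSite.Mod (O.over U)}
    (R : κ → ι → (SheafOfModules.unit (ModSite.ringSh (O.over U)) ⟶ SheafOfModules.unit _))
    (ν : ι → (SheafOfModules.unit _ ⟶ N))
    (h : ∀ k, ∑ i, (show O.obj.obj (op (otop U).left) from evAt (W := otop U) (R k i)) •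
      (show osect N (otop U) from evAt (W := otop U) (ν i)) = 0) :
    fdesc (fun k => ∑ i, R k i ≫ SheafOfModules.ιFree i) ≫ fdesc ν = 0 := by
  refine free_ext fun k => ?_
  rw [← Category.assoc, ιFree_fdesc, comp_zero, Preadditive.sum_comp]
  simp only [Category.assoc, ιFree_fdesc]
  refine ev_injective ((evAt_sum _ _).trans ?_)
  refine Eq.trans ?_ ((h k).trans rfl)
  exact Finset.sum_congr rfl fun i _ => evAt_comp _ _

theorem IsPres.congr (hP : IsPres M U s r) {s' : ι → ModSite.sect M U} {r' : κ → ι → O.obj.obj (op U)}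
    (hs : ∀ i, s i = s' i) (hr : ∀ k i, r k i = r' k i) : IsPres M U s' r' := by
  obtain rfl : s = s' := funext hs
  obtain rfl : r = r' := funext fun k => funext (hr k)
  exact hP

section Universal

variable [Fintype κ]

theorem IsPres.exists_cokernel (hP : IsPres M U s r) :
    ∃ (α : ι → (SheafOfModules.unit _ ⟶ (ModSite.restr O U).obj M))
      (R : κ → ι → (SheafOfModules.unit (ModSite.ringSh (O.over U)) ⟶ SheafOfModules.unit _)),
      (∀ i, ev (α i) = s i) ∧ (∀ k i, ev (R k i) = r k i) ∧
      ∃ hfg : fdesc (fun k => ∑ i, R k i ≫ SheafOfModules.ιFree i) ≫ fdesc α = 0,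
        Nonempty (IsColimit (CokernelCofork.ofπ _ hfg)) := by
  classical
  choose α hα using fun i => ev_surjective (O := O) (M := (ModSite.restr O U).obj M) (V := U) (s i)
  choose R hR using fun k i => ev_surjective (O := O) (M := SheafOfModules.unit _) (V := U) (r k i)
  have hfg : fdesc (fun k => ∑ i, R k i ≫ SheafOfModules.ιFree i) ≫ fdesc α = 0 :=
    fdesc_comp_eq_zero R α fun k => Eq.trans (Finset.sum_congr rfl fun i _ =>
      congr_arg₂ (fun (a : O.obj.obj (op U)) (b : ModSite.sect M U) => a • b) (hR k i) (hα i)) (hP.rel k)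
  haveI : Epi (fdesc α) := epi_desc M s α hα hP.gen
  have hex : Epi (kernel.lift _ _ hfg) := epi_lift_desc M s r α hα R hR hP.relGen hfg
  have hS : (ShortComplex.mk _ _ hfg).Exact := (ShortComplex.exact_iff_epi_kernel_lift _).2 hex
  exact ⟨α, R, hα, hR, hfg, ⟨hS.gIsCokernel⟩⟩

/-- Maps out of a presented module. -/
theorem IsPres.exists_hom (hP : IsPres M U s r) {N : ModSite.Mod (O.over U)} (n : ι → osect N (otop U))
    (hn : ∀ k, ∑ i, (show O.obj.obj (op (otop U).left) from r k i) • n i = 0) :
    ∃ φ : (ModSite.restr O U).obj M ⟶ N, ∀ i, (φ.val.app (op (otop U))).hom (s i) = n i := by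
  obtain ⟨α, R, hα, hR, hfg, ⟨hc⟩⟩ := hP.exists_cokernel
  choose ν hν using fun i => ev_surjective (O := O) (M := N) (V := U) (n i)
  have h0 : fdesc (fun k => ∑ i, R k i ≫ SheafOfModules.ιFree i) ≫ fdesc ν = 0 :=
    fdesc_comp_eq_zero R ν fun k => Eq.trans (Finset.sum_congr rfl fun i _ =>
      congr_arg₂ (fun (a : O.obj.obj (op (otop U).left)) (b : osect N (otop U)) => a • b) (hR k i) (hν i)) (hn k)
  obtain ⟨φ, hφ⟩ := CokernelCofork.IsColimit.desc' hc _ h0
  refine ⟨φ, fun i => ?_⟩
  rw [← hα i, ← hν i, ← ev_comp]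
  refine congrArg ev ?_
  calc α i ≫ φ = (SheafOfModules.ιFree i ≫ fdesc α) ≫ φ := by rw [ιFree_fdesc]
    _ = SheafOfModules.ιFree i ≫ fdesc α ≫ φ := Category.assoc _ _ _
    _ = SheafOfModules.ιFree i ≫ fdesc ν := congrArg (SheafOfModules.ιFree i ≫ ·) hφ
    _ = ν i := ιFree_fdesc ν i

/-- Maps out of a presented module agree if they agree on the generators. -/
theorem IsPres.hom_ext (hP : IsPres M U s r) {N : ModSite.Mod (O.over U)}
    {φ φ' : (ModSite.restr O U).obj M ⟶ N}
    (h : ∀ i, (φ.val.app (op (otop U))).hom (s i) = (φ'.val.app (op (otop U))).hom (s i)) : φ = φ' := by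
  obtain ⟨α, R, hα, hR, hfg, ⟨hc⟩⟩ := hP.exists_cokernel
  refine Cofork.IsColimit.hom_ext hc (free_ext fun i => ?_)
  show SheafOfModules.ιFree i ≫ fdesc α ≫ φ = SheafOfModules.ιFree i ≫ fdesc α ≫ φ'
  rw [← Category.assoc, ← Category.assoc, ιFree_fdesc]
  refine ev_injective ?_
  rw [ev_comp, ev_comp, hα i]
  exact h i

end Universal

section OfCokernel

/-- The coordinates of a finite free module. -/
theorem exists_coord [DecidableEq ι] :
    ∃ pr : ι → (SheafOfModules.free (R := ModSite.ringSh (O.over U)) ι ⟶ SheafOfModules.unit _),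
      ∑ j, pr j ≫ SheafOfModules.ιFree j = 𝟙 _ ∧
      ∀ i j, SheafOfModules.ιFree j ≫ pr i = if j = i then 𝟙 _ else 0 := by
  refine ⟨fun j => Cofan.IsColimit.desc (SheafOfModules.isColimitFreeCofan ι)
    (fun i => if i = j then 𝟙 _ else 0), ?_, fun i j => Cofan.IsColimit.fac _ _ _⟩
  refine Cofan.IsColimit.hom_ext (SheafOfModules.isColimitFreeCofan ι) _ _ fun i => ?_
  refine (Preadditive.comp_sum ..).trans ?_
  refine Eq.trans ?_ (Category.comp_id _).symm
  refine (Finset.sum_eq_single i (fun j _ hj => ?_) (fun h => absurd (Finset.mem_univ i) h)).trans ?_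
  · refine (Cofan.IsColimit.fac_assoc _ _ _ _).trans ?_
    rw [if_neg (Ne.symm hj), zero_comp]
  · refine (Cofan.IsColimit.fac_assoc _ _ _ _).trans ?_
    rw [if_pos rfl]
    exact Category.id_comp _

/-- A cokernel of free modules gives generators and relations. -/
theorem isPres_of_cokernel (f : SheafOfModules.free (R := ModSite.ringSh (O.over U)) κ ⟶ SheafOfModules.free ι)
    (g : SheafOfModules.free ι ⟶ (ModSite.restr O U).obj M) (hfg : f ≫ g = 0)
    (hc : IsColimit (CokernelCofork.ofπ g hfg))
    (pr : ι → (SheafOfModules.free (R := ModSite.ringSh (O.over U)) ι ⟶ SheafOfModules.unit _))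
    (hpr : ∑ j, pr j ≫ SheafOfModules.ιFree j = 𝟙 _)
    [DecidableEq ι] (hδ : ∀ i j, SheafOfModules.ιFree j ≫ pr i = if j = i then 𝟙 _ else 0) [Fintype κ] :
    IsPres M U (fun i => ev (SheafOfModules.ιFree i ≫ g))
      fun k i => ev (SheafOfModules.ιFree k ≫ f ≫ pr i) := by
  haveI : Epi g := Cofork.IsColimit.epi hc
  have hg : ∀ (W : Over U) (x : (SheafOfModules.free (R := ModSite.ringSh (O.over U)) ι).val.obj (op W)),
      ((g.val.app (op W)).hom x : ModSite.sect M W.left) = ∑ j, (show O.obj.obj (op W.left) from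
        ((pr j).val.app (op W)).hom x) • sres M W.hom.le (ev (SheafOfModules.ιFree j ≫ g) : ModSite.sect M U) := by
    intro W x
    refine Eq.trans ?_ (app_desc M (s := fun j => SheafOfModules.ιFree j ≫ g) W pr hpr x)
    exact congrArg (fun φ : SheafOfModules.free ι ⟶ (ModSite.restr O U).obj M => (φ.val.app (op W)).hom x)
      (Cofan.IsColimit.hom_ext (SheafOfModules.isColimitFreeCofan ι) _ _ fun i =>
        (Cofan.IsColimit.fac (SheafOfModules.isColimitFreeCofan ι) (fun j => SheafOfModules.ιFree j ≫ g) i).symm)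
  refine ⟨fun k => ?_, fun V hV m x hx => ?_, fun V hV a ha x hx => ?_⟩
  · have h1 := hg (otop U) (ev (SheafOfModules.ιFree k ≫ f))
    have h2 : (g.val.app (op (otop U))).hom (ev (SheafOfModules.ιFree k ≫ f)) =
        (0 : ModSite.sect M U) :=
      (ev_comp _ g).symm.trans (((congrArg ev ((Category.assoc _ _ _).trans ((congrArg (_ ≫ ·) hfg).trans comp_zero)))).trans rfl)
    refine Eq.trans ?_ (h1.symm.trans h2)
    refine Finset.sum_congr rfl fun i _ => ?_
    exact congr_arg₂ (fun (a : O.obj.obj (op U)) (b : ModSite.sect M U) => a • b)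
      ((congrArg ev (Category.assoc _ _ _).symm).trans (ev_comp _ (pr i)))
      (sres_id _).symm
  · let W : Over U := Over.mk (homOfLE hV)
    have : Sheaf.IsLocallySurjective ((SheafOfModules.toSheaf _).map g) :=
      (Sheaf.isLocallySurjective_iff_epi' _ _).2 inferInstance
    obtain ⟨V', k, hxV', z, hz⟩ := pointwise_of_mem_over (W := W) _
      (Presheaf.imageSieve_mem _ ((SheafOfModules.toSheaf _).map g).hom (U := op W) m) hx
    refine ⟨V', k, hxV', (Submodule.mem_span_range_iff_exists_fun _).2
      ⟨fun i => ((pr i).val.app _).hom z, ?_⟩⟩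
    exact (hg (Over.mk (homOfLE k ≫ W.hom)) z).symm.trans hz
  · let W : Over U := Over.mk (homOfLE hV)
    let y : (SheafOfModules.free (R := ModSite.ringSh (O.over U)) ι).val.obj (op W) :=
      ∑ j, ((SheafOfModules.ιFree j).val.app (op W)).hom
        (a j : (SheafOfModules.unit (ModSite.ringSh (O.over U))).val.obj (op W))
    have hy0 : (g.val.app (op W)).hom y = 0 := by
      refine (map_sum (g.val.app (op W)).hom _ _).trans (Eq.trans ?_ ha)
      exact Finset.sum_congr rfl fun i _ => app_unit W (SheafOfModules.ιFree i ≫ g) (a i)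
    let S := ShortComplex.mk (kernel.ι g) g (kernel.condition g)
    have hS : S.ShortExact := ShortComplex.ShortExact.mk' (ShortComplex.exact_kernel g) inferInstance inferInstance
    obtain ⟨z, hz⟩ := PullLoc25.exists_kernel_section hS y hy0
    have hex : Epi (kernel.lift g f hfg) :=
      (ShortComplex.exact_iff_epi_kernel_lift (ShortComplex.mk f g hfg)).1 (ShortComplex.exact_of_g_is_cokernel _ hc)
    have : Sheaf.IsLocallySurjective ((SheafOfModules.toSheaf _).map (kernel.lift g f hfg)) :=
      (Sheaf.isLocallySurjective_iff_epi' _ _).2 inferInstance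
    obtain ⟨V', k, hxV', b, hb⟩ := pointwise_of_mem_over (W := W) _
      (Presheaf.imageSieve_mem _ ((SheafOfModules.toSheaf _).map (kernel.lift g f hfg)).hom (U := op W) z) hx
    let W' : Over U := Over.mk (homOfLE k ≫ W.hom)
    let w : W' ⟶ W := Over.homMk (homOfLE k)
    have e1 : (f.val.app (op W')).hom b = (SheafOfModules.free ι).val.map w.op y := by
      rw [← hz]
      refine Eq.trans ?_ (PresheafOfModules.naturality_apply (kernel.ι g).val w.op z)
      refine Eq.trans ?_ (congrArg ((kernel.ι g).val.app (op W')).hom hb)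
      exact congrArg (fun φ : SheafOfModules.free κ ⟶ SheafOfModules.free ι => (φ.val.app (op W')).hom b)
        (kernel.lift_ι g f hfg).symm
    obtain ⟨prκ, hprκ⟩ := exists_proj (O := O) (V := U) κ
    refine ⟨V', k, hxV', (Submodule.mem_span_range_iff_exists_fun _).2
      ⟨fun j => ((prκ j).val.app (op W')).hom b, funext fun i => ?_⟩⟩
    have e2 : ((pr i).val.app (op W)).hom y = (a i : (SheafOfModules.unit (ModSite.ringSh (O.over U))).val.obj (op W)) := by
      refine (map_sum ((pr i).val.app (op W)).hom _ _).trans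
        ((Finset.sum_eq_single i (fun j _ hj => ?_) (fun h => absurd (Finset.mem_univ i) h)).trans ?_)
      · exact congrArg (fun φ : SheafOfModules.unit _ ⟶ SheafOfModules.unit (ModSite.ringSh (O.over U)) =>
          (φ.val.app (op W)).hom (a j : (SheafOfModules.unit (ModSite.ringSh (O.over U))).val.obj (op W)))
          ((hδ i j).trans (if_neg hj))
      · exact congrArg (fun φ : SheafOfModules.unit _ ⟶ SheafOfModules.unit (ModSite.ringSh (O.over U)) =>
          (φ.val.app (op W)).hom (a i : (SheafOfModules.unit (ModSite.ringSh (O.over U))).val.obj (op W)))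
          ((hδ i i).trans (if_pos rfl))
    have e3 : ((f ≫ pr i).val.app (op W')).hom b = ores O k (a i) :=
      (congrArg ((pr i).val.app (op W')).hom e1).trans
        ((PresheafOfModules.naturality_apply (pr i).val w.op y).trans
          (congrArg ((SheafOfModules.unit (ModSite.ringSh (O.over U))).val.map w.op) e2))
    refine Eq.trans ?_ e3
    let β : κ → (SheafOfModules.unit _ ⟶ SheafOfModules.unit (ModSite.ringSh (O.over U))) := fun j =>
      SheafOfModules.ιFree j ≫ f ≫ pr i
    have e4 : f ≫ pr i = ∑ j, prκ j ≫ β j := by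
      refine ((Category.id_comp _).symm.trans (congrArg (· ≫ f ≫ pr i) hprκ.symm)).trans ?_
      refine (Preadditive.sum_comp _ _ _).trans (Finset.sum_congr rfl fun j _ => Category.assoc _ _ _)
    rw [e4]
    refine Eq.trans ?_ (map_sum (AddMonoidHom.mk' (fun φ : SheafOfModules.free (R := ModSite.ringSh (O.over U)) κ ⟶
      SheafOfModules.unit _ => (φ.val.app (op W')).hom b) fun _ _ => rfl) _ _).symm
    refine (Finset.sum_apply i Finset.univ _).trans (Finset.sum_congr rfl fun j _ => ?_)
    exact (app_unit' W' (β j) _).symm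

set_option maxHeartbeats 400000 in
/-- Generators and relations with the universal property present the module. -/
theorem isPres_of_universal [Fintype κ] (hrel : ∀ k, ∑ i, r k i • s i = 0)
    (hex : ∀ (N : ModSite.Mod (O.over U)) (n : ι → osect N (otop U)),
      (∀ k, ∑ i, (show O.obj.obj (op (otop U).left) from r k i) • n i = 0) →
        ∃ φ : (ModSite.restr O U).obj M ⟶ N, ∀ i, (φ.val.app (op (otop U))).hom (s i) = n i)
    (huniq : ∀ (N : ModSite.Mod (O.over U)) (φ φ' : (ModSite.restr O U).obj M ⟶ N),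
      (∀ i, (φ.val.app (op (otop U))).hom (s i) = (φ'.val.app (op (otop U))).hom (s i)) → φ = φ') :
    IsPres M U s r := by
  classical
  choose α hα using fun i => ev_surjective (O := O) (M := (ModSite.restr O U).obj M) (V := U) (s i)
  choose R hR using fun k i => ev_surjective (O := O) (M := SheafOfModules.unit _) (V := U) (r k i)
  let F₀ := fdesc (fun k => ∑ i, R k i ≫ SheafOfModules.ιFree i)
  have hfg : F₀ ≫ fdesc α = 0 := fdesc_comp_eq_zero R α fun k => Eq.trans (Finset.sum_congr rfl fun i _ =>
      congr_arg₂ (fun (a : O.obj.obj (op U)) (b : ModSite.sect M U) => a • b) (hR k i) (hα i)) (hrel k)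
  have hdesc : ∀ {N : ModSite.Mod (O.over U)} (g : SheafOfModules.free ι ⟶ N), F₀ ≫ g = 0 →
      ∃ φ, fdesc α ≫ φ = g := by
    intro N g hg
    obtain ⟨φ, hφ⟩ := hex N (fun i => ev (SheafOfModules.ιFree i ≫ g)) fun k => by
      have h1 : ∑ i, R k i ≫ SheafOfModules.ιFree i ≫ g = 0 := by
        have h2 : SheafOfModules.ιFree k ≫ F₀ ≫ g = 0 := by rw [hg, comp_zero]
        rw [← Category.assoc, ιFree_fdesc, Preadditive.sum_comp] at h2
        simpa only [Category.assoc] using h2
      refine Eq.trans ?_ (((evAt_sum (W := otop U) Finset.univ fun i => R k i ≫ SheafOfModules.ιFree i ≫ g).symm.trans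
        (congrArg ev h1)).trans rfl)
      exact Finset.sum_congr rfl fun i _ => Eq.trans
        (congrArg (fun a : O.obj.obj (op (otop U).left) => a • (ev (SheafOfModules.ιFree i ≫ g) : osect N (otop U)))
          (hR k i).symm) (evAt_comp _ _).symm
    refine ⟨φ, free_ext fun i => ?_⟩
    rw [← Category.assoc, ιFree_fdesc]
    refine ev_injective ?_
    rw [ev_comp, hα i]
    exact hφ i
  haveI : Epi (fdesc α) := ⟨fun {N} φ φ' he => huniq N φ φ' fun i => by
    rw [← hα i, ← ev_comp, ← ev_comp]
    refine congrArg ev ?_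
    rw [← ιFree_fdesc α i, Category.assoc, Category.assoc, he]⟩
  have hc : IsColimit (CokernelCofork.ofπ (fdesc α) hfg) :=
    CokernelCofork.IsColimit.ofπ' _ hfg fun {N} g hg => ⟨(hdesc g hg).choose, (hdesc g hg).choose_spec⟩
  obtain ⟨pr, hpr, hδ⟩ := exists_coord (O := O) (U := U) (ι := ι)
  refine (isPres_of_cokernel F₀ (fdesc α) hfg hc pr hpr hδ).congr
    (fun i => (congrArg (fun φ => (ev φ : ModSite.sect M U)) (ιFree_fdesc α i)).trans (hα i)) (fun k i => ?_)
  have h1 : SheafOfModules.ιFree k ≫ F₀ ≫ pr i = R k i := ?_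
  · exact (congrArg ev h1).trans (hR k i)
  rw [← Category.assoc, ιFree_fdesc, Preadditive.sum_comp]
  refine (Finset.sum_eq_single i (fun j _ hj => ?_) (fun h => absurd (Finset.mem_univ i) h)).trans ?_
  · rw [Category.assoc, hδ i j, if_neg hj, comp_zero]
  · rw [Category.assoc, hδ i i, if_pos rfl]
    exact Category.comp_id _

omit [Fintype ι] in
/-- A finite presentation gives generators and relations. -/
theorem exists_isPres (P : ((ModSite.restr O U).obj M).Presentation) [P.IsFinite] :
    ∃ (ι κ : Type u) (_ : Fintype ι) (_ : Fintype κ) (s : ι → ModSite.sect M U) (r : κ → ι → O.obj.obj (op U)),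
      IsPres M U s r := by
  classical
  have : Finite P.generators.I := (SheafOfModules.Presentation.IsFinite.isFiniteType_generators (p := P)).finite
  have : Finite P.relations.I := (SheafOfModules.Presentation.IsFinite.isFiniteType_relations (p := P)).finite
  letI := Fintype.ofFinite P.generators.I
  letI := Fintype.ofFinite P.relations.I
  obtain ⟨pr, hpr, hδ⟩ := exists_coord (O := O) (U := U) (ι := P.generators.I)
  exact ⟨_, _, inferInstance, inferInstance, _, _, isPres_of_cokernel _ _ _ P.isColimit pr hpr hδ⟩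

end OfCokernel

end GrothLib.FMod7
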