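import Groth.Agent.Lib.FMod7.Algz
import Groth.Agent.Lib.FFormal7.AlgzSupp

/-!
# Extensions of completions of coherent modules with proper support
-/

set_option autoImplicit false
set_option linter.style.haveILetI false
set_option linter.unusedSectionVars false
universe u

open CategoryTheory CategoryTheory.Limits AlgebraicGeometry TopologicalSpace Opposite

noncomputable section

namespace GrothLib.FMod7

/-- A left adjoint carries a short exact sequence to a right exact one. -/
theorem exists_shortExact_map_of_leftAdjoint {C D : Type*} [Category C] [Category D] [Abelian C] [Abelian D]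
    (L : C ⥤ D) [L.IsLeftAdjoint] {S : ShortComplex C} (hS : S.ShortExact) :
    ∃ T : ShortComplex D, T.ShortExact ∧ Nonempty (T.X₂ ≅ L.obj S.X₂) ∧ Nonempty (T.X₃ ≅ L.obj S.X₃) ∧
      ∃ π : L.obj S.X₁ ⟶ T.X₁, Epi π := by
  haveI : PreservesBinaryBiproducts L := preservesBinaryBiproducts_of_preservesBinaryCoproducts _
  haveI : L.Additive := Functor.additive_of_preservesBinaryBiproducts _
  haveI := hS.epi_g
  have hc : IsColimit (CokernelCofork.ofπ (L.map S.g) (S.map L).zero) :=
    CokernelCofork.mapIsColimit _ hS.gIsCokernel L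
  have hex : (S.map L).Exact := ShortComplex.exact_of_g_is_cokernel _ hc
  haveI : Epi (L.map S.g) := Cofork.IsColimit.epi hc
  refine ⟨ShortComplex.mk (kernel.ι (L.map S.g)) (L.map S.g) (kernel.condition _),
    { exact := ShortComplex.exact_kernel _ }, ⟨Iso.refl _⟩, ⟨Iso.refl _⟩,
    kernel.lift (L.map S.g) (L.map S.f) (S.map L).zero, hex.epi_kernelLift⟩

/-- A morphism splits as kernel followed by image. -/
theorem exists_shortExact_kernel_image {C : Type*} [Category C] [Abelian C] {a b : C} (v : a ⟶ b) :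
    ∃ w : kernel.ι v ≫ Abelian.factorThruImage v = 0,
      (ShortComplex.mk (kernel.ι v) (Abelian.factorThruImage v) w).ShortExact := by
  have w : kernel.ι v ≫ Abelian.factorThruImage v = 0 :=
    (cancel_mono (Abelian.image.ι v)).1 (by rw [Category.assoc, Abelian.image.fac, kernel.condition, zero_comp])
  exact ⟨w, { exact := ShortComplex.exact_of_f_is_kernel _ (KernelFork.IsLimit.ofι' _ _ fun g hg =>
    ⟨kernel.lift v g (by rw [← Abelian.image.fac v, reassoc_of% hg, zero_comp]), kernel.lift_ι _ _ _⟩) }⟩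

variable {𝔛 : FSch.Sys.{u}} (h : 𝔛.IsFormal)

/-- The pull back to a level of the module of a coherent system. -/
def pullRealIso {𝔐 : FSch.ModSys 𝔛} (hN : 𝔛.IsLocNoethFormal) (h𝔐 : 𝔐.IsCoh) (k : ℕ) :
    (FSch.levelMor 𝔛 h k).pull.obj (𝔐.realMod h) ≅ 𝔐.F k :=
  @asIso _ _ _ _ _ (isIso_adjoint_realProj (h := h) hN h𝔐 k)

theorem support_subset_of_shortExact {S : ShortComplex (FSch.ModF 𝔛 h)} (hS : S.ShortExact) (k : ℕ)
    {P Q : (𝔛.X k).Modules} (eP : (FSch.levelMor 𝔛 h k).pull.obj S.X₁ ≅ P)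
    (eQ : (FSch.levelMor 𝔛 h k).pull.obj S.X₃ ≅ Q) :
    CohB1.support (X := 𝔛.X k) ((FSch.levelMor 𝔛 h k).pull.obj S.X₂) ⊆ CohB1.support P ∪ CohB1.support Q := by
  haveI : (FSch.levelMor 𝔛 h k).pull.IsLeftAdjoint := (FSch.levelMor 𝔛 h k).adj.isLeftAdjoint
  let L : FSch.ModF 𝔛 h ⥤ (𝔛.X k).Modules := (FSch.levelMor 𝔛 h k).pull
  haveI : L.IsLeftAdjoint := (FSch.levelMor 𝔛 h k).adj.isLeftAdjoint
  obtain ⟨T, hT, ⟨e₂⟩, ⟨e₃⟩, π, hπ⟩ := exists_shortExact_map_of_leftAdjoint L hS
  refine (GrothLib.QCoh.support_subset_of_mono (X := 𝔛.X k) e₂.inv).trans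
    ((GrothLib.QCoh.support_subset_union hT).trans (Set.union_subset_union ?_ ?_))
  · have he : Epi ((show P ⟶ L.obj S.X₁ from eP.inv) ≫ π) :=
      @epi_comp _ _ _ _ _ _ (@IsIso.epi_of_iso _ _ _ _ _ ⟨eP.hom, eP.inv_hom_id, eP.hom_inv_id⟩) _ hπ
    exact @GrothLib.QCoh.support_subset_of_epi _ _ _ _ he
  · exact GrothLib.QCoh.support_subset_of_mono (X := 𝔛.X k) (e₃ ≪≫ eQ).hom

section Supp

variable {A : Type u} [CommRing A] [IsNoetherianRing A] (J : Ideal A) [IsAdicComplete J A]
  {X : Scheme.{u}} [X.Over (Spec (CommRingCat.of A))] [IsSeparated (X ↘ Spec (CommRingCat.of A))]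
  [LocallyOfFiniteType (X ↘ Spec (CommRingCat.of A))] [QuasiCompact (X ↘ Spec (CommRingCat.of A))]

include J in
/-- An extension of completions of coherent modules with proper support is such a completion. -/
theorem exists_iso_hat_of_shortExact {𝓘 : X.IdealSheafData} (hX : (FSch.completionAlong X 𝓘).IsFormal)
    (h𝓘 : 𝓘 = GrothLib.FFormal7.baseIdeal J X)
    {S : ShortComplex (FSch.ModF (FSch.completionAlong X 𝓘) hX)} (hS : S.ShortExact)
    (h₂ : FSch.IsCohF _ hX S.X₂) {H G : X.Modules} (hH : Coh.IsCoh H) (hG : Coh.IsCoh G)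
    (hHs : FormalExist7.ProperSupp A H) (hGs : FormalExist7.ProperSupp A G)
    (eH : S.X₁ ≅ (FSch.complMod 𝓘 H).realMod hX) (eG : S.X₃ ≅ (FSch.complMod 𝓘 G).realMod hX) :
    ∃ M : X.Modules, Coh.IsCoh M ∧ FormalExist7.ProperSupp A M ∧
      Nonempty (S.X₂ ≅ (FSch.complMod 𝓘 M).realMod hX) := by
  haveI := LocallyOfFiniteType.isLocallyNoetherian (X ↘ Spec (CommRingCat.of A))
  haveI := h₂
  have hN := Groth.Agent.S3854.result X 𝓘
  have h𝔐 : (pullSys hX S.X₂).IsCoh := isCoh_pullSys
  let ι0 := FSch.completionToX X 𝓘 0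
  have e1 : CohB1.support ((pullSys hX S.X₂).F 0) ⊆ ι0 ⁻¹' (CohB1.support H ∪ CohB1.support G) := by
    refine (support_subset_of_shortExact hX hS 0
      (P := (Scheme.Modules.pullback ι0).obj H) (Q := (Scheme.Modules.pullback ι0).obj G)
      ((FSch.levelMor _ hX 0).pull.mapIso eH ≪≫ pullRealIso hX hN (isCoh_complMod hH) 0)
      ((FSch.levelMor _ hX 0).pull.mapIso eG ≪≫ pullRealIso hX hN (isCoh_complMod hG) 0)).trans ?_
    rw [QCoh.support_pullback _ H hH, QCoh.support_pullback _ G hG, Set.preimage_union]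
  have hp : FormalExist7.ProperSupp A ((Scheme.Modules.pushforward ι0).obj ((pullSys hX S.X₂).F 0)) := by
    have hc := FormalExist7.isCoh_pushforward ι0 (h𝔐 0)
    refine ProperOver.IsProperOver.subset _ (ProperOver.isProperOver_iUnion _ (fun b : Bool => cond b (CohB1.support H)
      (CohB1.support G)) (fun b => by cases b <;> assumption)) (QCoh.isClosed_support_of_isCoh hc) ?_
    refine (FormalExist7.support_push_subset_image ι0 (ι0.isClosedEmbedding.isClosedMap _ (QCoh.isClosed_support_of_isCoh (h𝔐 0)))).trans ((Set.image_mono e1).trans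
      ((Set.image_preimage_subset _ _).trans ?_))
    exact Set.union_subset (Set.subset_iUnion (fun b : Bool => cond b (CohB1.support H) (CohB1.support G)) true)
      (Set.subset_iUnion (fun b : Bool => cond b (CohB1.support H) (CohB1.support G)) false)
  obtain ⟨M, hM, hMs, ⟨e⟩⟩ := GrothLib.FFormal7.exists_iso_complMod_supp J 𝓘 h𝓘 (pullSys hX S.X₂) h𝔐 hp
  haveI := isIso_toReal (h := hX) (F := S.X₂) hN
  haveI : IsIso (FSch.ModSys.realModMap hX e.hom) := ⟨FSch.ModSys.realModMap hX e.inv,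
    by rw [← realModMap_comp, e.hom_inv_id, realModMap_id], by rw [← realModMap_comp, e.inv_hom_id, realModMap_id]⟩
  exact ⟨M, hM, hMs, ⟨asIso (toReal hX S.X₂) ≪≫ asIso (FSch.ModSys.realModMap hX e.hom)⟩⟩

end Supp

end GrothLib.FMod7
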