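import Groth.Agent.Lib.FlatFP.Sheaf

/-!
# Sections of quasi-coherent modules over a smaller affine open
-/

set_option autoImplicit false
set_option linter.style.haveILetI false
set_option linter.unusedSectionVars false
universe u

open CategoryTheory CategoryTheory.Limits AlgebraicGeometry Opposite TopologicalSpace

noncomputable section

namespace GrothLib.FMod7

variable {X : Scheme.{u}} (G : X.Modules) [G.IsQuasicoherent]

/-- An element of a module lying in a submodule up to denominators avoiding every point lies in it. -/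
theorem mem_of_forall_prime {V : X.Opens} (hV : IsAffineOpen V) {N : Type u} [AddCommGroup N] [Module Γ(X, V) N]
    (S : Submodule Γ(X, V) N) (t : N)
    (h : ∀ (y : X) (hy : y ∈ V), ∃ c, c ∉ WeakAss.primeAt y hy ∧ c • t ∈ S) : t ∈ S := by
  have h1 : S.colon {t} = ⊤ := by
    by_contra hne
    obtain ⟨P, hP, hle⟩ := Ideal.exists_le_maximal _ hne
    obtain ⟨y, hy, rfl⟩ : ∃ (y : X) (hy : y ∈ V), WeakAss.primeAt y hy = P := by
      let x : Spec Γ(X, V) := ⟨P, hP.isPrime⟩
      have hx : hV.fromSpec x ∈ V := by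
        have := Set.mem_range_self (f := hV.fromSpec) x
        rwa [hV.range_fromSpec] at this
      refine ⟨_, hx, ?_⟩
      have e : hV.primeIdealOf ⟨hV.fromSpec x, hx⟩ = x :=
        hV.fromSpec.isOpenEmbedding.injective (hV.fromSpec_primeIdealOf ⟨_, hx⟩)
      exact congrArg PrimeSpectrum.asIdeal ((QCoh.primeAt_eq_primeIdealOf hV hx).trans e)
    obtain ⟨c, hc, hct⟩ := h y hy
    exact hc (hle (Submodule.mem_colon_singleton.2 hct))
  have h2 : (1 : Γ(X, V)) ∈ S.colon {t} := h1 ▸ Submodule.mem_top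
  simpa [Submodule.mem_colon_singleton] using h2

theorem exists_kill_of_germ_eq {V : X.Opens} (hV : IsAffineOpen V) {y : X} (hy : y ∈ V) {s t : Γ(G, V)}
    (h : G.presheaf.germ V y hy s = G.presheaf.germ V y hy t) :
    ∃ c, c ∉ WeakAss.primeAt y hy ∧ c • s = c • t := by
  letI := X.presheaf.algebra_section_stalk ⟨y, hy⟩
  letI : Module Γ(X, V) (G.presheaf.stalk y) := Module.compHom _ (X.presheaf.germ V y hy).hom
  obtain ⟨g, hg, hg'⟩ := FlatFP.isLocalizedModule_germ G hV hy
  haveI := hg
  obtain ⟨c, hc⟩ := (IsLocalizedModule.eq_iff_exists (WeakAss.primeAt y hy).primeCompl g).1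
    ((hg' s).trans (h.trans (hg' t).symm))
  exact ⟨c.1, c.2, hc⟩

theorem exists_eq_smul_germ {U : X.Opens} (hU : IsAffineOpen U) {y : X} (hy : y ∈ U) (z : G.presheaf.stalk y) :
    ∃ (s : Γ(G, U)) (w : Γ(X, U)), w ∉ WeakAss.primeAt y hy ∧
      X.presheaf.germ U y hy w • z = G.presheaf.germ U y hy s := by
  letI := X.presheaf.algebra_section_stalk ⟨y, hy⟩
  letI : Module Γ(X, U) (G.presheaf.stalk y) := Module.compHom _ (X.presheaf.germ U y hy).hom
  obtain ⟨g, hg, hg'⟩ := FlatFP.isLocalizedModule_germ G hU hy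
  haveI := hg
  obtain ⟨⟨s, w⟩, hsw⟩ := IsLocalizedModule.surj (WeakAss.primeAt y hy).primeCompl g z
  exact ⟨s, w.1, w.2, hsw.trans (hg' s)⟩

variable {U V : X.Opens} (hU : IsAffineOpen U) (hV : IsAffineOpen V) (hVU : V ≤ U)

theorem not_mem_primeAt_res {y : X} (hy : y ∈ V) {w : Γ(X, U)} (hw : w ∉ WeakAss.primeAt y (hVU hy)) :
    X.presheaf.map (homOfLE hVU).op w ∉ WeakAss.primeAt y hy := by
  intro hm
  refine hw ?_
  simp only [WeakAss.primeAt, Ideal.mem_comap] at hm ⊢
  convert hm using 1
  exact (TopCat.Presheaf.germ_res_apply X.presheaf (homOfLE hVU) y hy w).symm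

include hU hV in
/-- Sections over an affine open generate the sections over a smaller one. -/
theorem mem_span_res (t : Γ(G, V)) :
    t ∈ Submodule.span Γ(X, V) (Set.range fun s : Γ(G, U) => G.presheaf.map (homOfLE hVU).op s) := by
  refine mem_of_forall_prime hV _ t fun y hy => ?_
  obtain ⟨s, w, hw, hws⟩ := exists_eq_smul_germ G hU (hVU hy) (G.presheaf.germ V y hy t)
  obtain ⟨c, hc, hct⟩ := exists_kill_of_germ_eq G hV hy (s := X.presheaf.map (homOfLE hVU).op w • t)
    (t := G.presheaf.map (homOfLE hVU).op s) (by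
      rw [WeakAss.germ_smul, TopCat.Presheaf.germ_res_apply, TopCat.Presheaf.germ_res_apply]
      exact hws)
  refine ⟨c * X.presheaf.map (homOfLE hVU).op w,
    fun h => ((Ideal.IsPrime.mem_or_mem inferInstance h).elim hc (not_mem_primeAt_res hVU hy hw)), ?_⟩
  rw [mul_smul, hct]
  exact Submodule.smul_mem _ _ (Submodule.subset_span ⟨s, rfl⟩)

include hU hV in
/-- Relations over a smaller affine open are generated by relations over the larger one. -/
theorem mem_span_relations {ι : Type} [Fintype ι] (m : ι → Γ(G, U)) (a : ι → Γ(X, V))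
    (ha : ∑ i, a i • G.presheaf.map (homOfLE hVU).op (m i) = 0) :
    a ∈ Submodule.span Γ(X, V) ((fun b : ι → Γ(X, U) => fun i => X.presheaf.map (homOfLE hVU).op (b i)) ''
      {b | ∑ i, b i • m i = 0}) := by
  classical
  refine mem_of_forall_prime hV _ a fun y hy => ?_
  letI := X.presheaf.algebra_section_stalk ⟨y, hVU hy⟩
  haveI := FlatFP.isLocalization_stalk_primeAt hU (hVU hy)
  obtain ⟨w, hw⟩ := IsLocalization.exist_integer_multiples_of_finite (WeakAss.primeAt y (hVU hy)).primeCompl
    (fun i => X.presheaf.germ V y hy (a i))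
  choose b hb using hw
  have hb' : ∀ i, X.presheaf.germ U y (hVU hy) (b i) =
      X.presheaf.germ U y (hVU hy) w.1 * X.presheaf.germ V y hy (a i) := fun i => hb i
  have hsum : G.presheaf.germ U y (hVU hy) (∑ i, b i • m i) = G.presheaf.germ U y (hVU hy) 0 := by
    rw [map_sum, map_zero]
    have h0 : G.presheaf.germ V y hy (∑ i, a i • G.presheaf.map (homOfLE hVU).op (m i)) = 0 := by
      rw [ha, map_zero]
    rw [map_sum] at h0
    have h1 := congrArg (fun z => X.presheaf.germ U y (hVU hy) w.1 • z) h0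
    simp only [smul_zero, Finset.smul_sum] at h1
    refine Eq.trans (Finset.sum_congr rfl fun i _ => ?_) h1
    rw [WeakAss.germ_smul, WeakAss.germ_smul, TopCat.Presheaf.germ_res_apply, hb', mul_smul]
  obtain ⟨c, hc, hcb⟩ := exists_kill_of_germ_eq G hU (hVU hy) hsum
  let r := X.presheaf.map (homOfLE hVU).op
  have hker : ∀ i, ∃ d, d ∉ WeakAss.primeAt y hy ∧ d * (r (c * w.1) * a i) = d * r (c * b i) := by
    intro i
    letI := X.presheaf.algebra_section_stalk ⟨y, hy⟩
    haveI := FlatFP.isLocalization_stalk_primeAt hV hy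
    obtain ⟨d, hd⟩ := (IsLocalization.eq_iff_exists (WeakAss.primeAt y hy).primeCompl (X.presheaf.stalk y)
      (x := r (c * w.1) * a i) (y := r (c * b i))).1 (by
      show X.presheaf.germ V y hy _ = X.presheaf.germ V y hy _
      rw [map_mul, TopCat.Presheaf.germ_res_apply, TopCat.Presheaf.germ_res_apply, map_mul, map_mul, hb',
        mul_assoc])
    exact ⟨d.1, d.2, hd⟩
  choose d hd hde using hker
  refine ⟨(∏ i, d i) * r (c * w.1), ?_, ?_⟩
  · intro h
    rcases Ideal.IsPrime.mem_or_mem inferInstance h with h | h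
    · obtain ⟨i, -, hi⟩ := (Ideal.IsPrime.prod_mem_iff (p := WeakAss.primeAt y hy)).1 h
      exact hd i hi
    · exact not_mem_primeAt_res hVU hy (fun h' => (Ideal.IsPrime.mem_or_mem inferInstance h').elim hc w.2) h
  · have : ((∏ i, d i) * r (c * w.1)) • a = (∏ i, d i) • fun i => r (c * b i) := by
      funext i
      simp only [Pi.smul_apply, smul_eq_mul]
      obtain ⟨e, he⟩ := Finset.dvd_prod_of_mem d (Finset.mem_univ i)
      rw [he, mul_assoc, mul_comm (d i) e, mul_assoc, mul_assoc, hde]
    rw [this]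
    refine Submodule.smul_mem _ _ (Submodule.subset_span ⟨fun i => c * b i, ?_, rfl⟩)
    show ∑ i, (c * b i) • m i = 0
    simp only [mul_smul, ← Finset.smul_sum]
    rw [hcb, smul_zero]

end GrothLib.FMod7
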