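import Groth.Agent.Lib.FMod7.Mods
import Groth.Agent.Lib.FMod7.QSec
import Mathlib.RingTheory.Filtration
import Mathlib.RingTheory.Nakayama
import Mathlib.RingTheory.AdicCompletion.Algebra

/-!
# Generators and relations of the module of a coherent system on smaller affine opens
-/

set_option autoImplicit false
set_option linter.style.haveILetI false
set_option linter.unusedSectionVars false
universe u

open CategoryTheory CategoryTheory.Limits AlgebraicGeometry TopologicalSpace Opposite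

noncomputable section

namespace GrothLib.FMod7

variable {𝔛 : FSch.Sys.{u}} {h : 𝔛.IsFormal} {U V : (𝔛.X 0).Opens} {𝔐 : FSch.ModSys 𝔛}

/-- Restriction of sections of the module of a system. -/
def mRes (hVU : V ≤ U) (x : Mods h U 𝔐) : Mods h V 𝔐 := (𝔐.realMod h).val.map (homOfLE hVU).op x

/-- Restriction of functions. -/
def rRes (hVU : V ≤ U) : Sec 𝔛 h U →+* Sec 𝔛 h V := ((𝔛.Osh h).obj.map (homOfLE hVU).op).hom

theorem lvU_mono (hVU : V ≤ U) (k : ℕ) : 𝔛.lvU h k V ≤ 𝔛.lvU h k U :=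
  ((Opens.map (𝔛.gInv h k)).map (homOfLE hVU)).le

variable (hN : 𝔛.IsLocNoethFormal) (hU : IsAffineOpen U) (hV : IsAffineOpen V) (hVU : V ≤ U) (h𝔐 : 𝔐.IsCoh)
  {ι : Type} [Fintype ι] {m : ι → Mods h U 𝔐} (hm : Submodule.span (Sec 𝔛 h U) (Set.range m) = ⊤)

theorem secIdeal_le_jacobson (hN : 𝔛.IsLocNoethFormal) (hV : IsAffineOpen V) :
    secIdeal 𝔛 h V ≤ (⊥ : Ideal (Sec 𝔛 h V)).jacobson :=
  haveI := isAdicComplete_Sec (h := h) hN hV
  IsAdicComplete.le_jacobson_bot _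

theorem sum_smul_proj (k : ℕ) (y : ι → Sec 𝔛 h U) (n : ι → Mods h U 𝔐) :
    mProj h U 𝔐 k (∑ i, y i • n i) = ∑ i, proj 𝔛 h U k (y i) • mProj h U 𝔐 k (n i) := by
  refine (map_sum (AddMonoidHom.mk' (mProj h U 𝔐 k) (sProj_add h U _ _ k)) _ _).trans ?_
  exact Finset.sum_congr rfl fun i _ => sProj_smul h U _ _ k _ _

include hN hU hV h𝔐 hm

/-- Generators over an affine open generate over a smaller one. -/
theorem span_mRes_eq_top : Submodule.span (Sec 𝔛 h V) (Set.range fun i => mRes hVU (m i)) = ⊤ := by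
  haveI := moduleFinite_mods (h := h) hN hV h𝔐
  refine eq_top_iff.2 (Submodule.le_of_le_smul_of_le_jacobson_bot Module.Finite.fg_top
    (secIdeal_le_jacobson hN hV) fun x _ => ?_)
  haveI := (h𝔐 0).1
  suffices H : ∀ z : MSec h V 𝔐.F 0, ∃ s ∈ Submodule.span (Sec 𝔛 h V) (Set.range fun i => mRes hVU (m i)),
      mProj h V 𝔐 0 s = z by
    obtain ⟨s, hs, hsx⟩ := H (mProj h V 𝔐 0 x)
    refine Submodule.mem_sup.2 ⟨s, hs, x - s, ?_, add_sub_cancel _ _⟩
    have h0 : mProj h V 𝔐 0 (x - s) = 0 := by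
      have h1 := sProj_add h V 𝔐.F 𝔐.toPush 0 (x - s) s
      rw [sub_add_cancel] at h1
      have h2 : mProj h V 𝔐 0 (x - s) + mProj h V 𝔐 0 s = mProj h V 𝔐 0 s := h1.symm.trans hsx.symm
      exact add_eq_right.1 h2
    have := (mProj_eq_zero_iff hN hV h𝔐 0 _).1 h0
    simpa using this
  intro z
  refine Submodule.span_induction ?_ ⟨0, zero_mem _, map_zero (AddMonoidHom.mk' (mProj h V 𝔐 0) (sProj_add h V _ _ 0))⟩
    ?_ ?_ (mem_span_res (𝔐.F 0) (FFormal7.isAffineOpen_lvU 𝔛 h hU 0) (FFormal7.isAffineOpen_lvU 𝔛 h hV 0)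
      (lvU_mono hVU 0) z)
  · rintro _ ⟨g, rfl⟩
    obtain ⟨y, rfl⟩ := mProj_surjective hN hU h𝔐 0 g
    refine ⟨mRes hVU y, ?_, sProj_res h _ _ hVU 0 y⟩
    obtain ⟨c, rfl⟩ := (Submodule.mem_span_range_iff_exists_fun _).1 (hm.symm ▸ trivial :
      y ∈ Submodule.span (Sec 𝔛 h U) (Set.range m))
    have : mRes hVU (∑ i, c i • m i) = ∑ i, rRes hVU (c i) • mRes hVU (m i) :=
      (map_sum ((𝔐.realMod h).val.map (homOfLE hVU).op).hom _ _).trans
        (Finset.sum_congr rfl fun i _ => PresheafOfModules.map_smul _ _ _ _)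
    rw [this]
    exact Submodule.sum_mem _ fun i _ => Submodule.smul_mem _ _ (Submodule.subset_span ⟨i, rfl⟩)
  · rintro a b _ _ ⟨s, hs, rfl⟩ ⟨s', hs', rfl⟩
    exact ⟨s + s', add_mem hs hs', sProj_add h V _ _ 0 s s'⟩
  · rintro r b _ ⟨s, hs, rfl⟩
    obtain ⟨a, rfl⟩ := proj_surjective hN hV 0 r
    exact ⟨a • s, Submodule.smul_mem _ _ hs, sProj_smul h V _ _ 0 a s⟩

/-- Relations over a smaller affine open are generated by relations over the larger one. -/
theorem relations_mRes (y : ι → Sec 𝔛 h V) (hy : ∑ i, y i • mRes hVU (m i) = 0) :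
    y ∈ Submodule.span (Sec 𝔛 h V) ((fun b : ι → Sec 𝔛 h U => fun i => rRes hVU (b i)) ''
      {b | ∑ i, b i • m i = 0}) := by
  classical
  haveI := isNoetherianRing_Sec (h := h) hN hV
  set T := Submodule.span (Sec 𝔛 h V) ((fun b : ι → Sec 𝔛 h U => fun i => rRes hVU (b i)) ''
      {b | ∑ i, b i • m i = 0})
  suffices key : ∀ k, ∃ s ∈ T, ∀ i, proj 𝔛 h V k (y i - s i) = 0 by
    have hb := Ideal.iInf_pow_smul_eq_bot_of_le_jacobson (secIdeal 𝔛 h V) (M := (ι → Sec 𝔛 h V) ⧸ T)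
      (secIdeal_le_jacobson hN hV)
    have : T.mkQ y ∈ (⨅ n : ℕ, secIdeal 𝔛 h V ^ n • ⊤ : Submodule (Sec 𝔛 h V) ((ι → Sec 𝔛 h V) ⧸ T)) := by
      refine Submodule.mem_iInf _ |>.2 fun n => ?_
      obtain ⟨s, hs, hsy⟩ := key n
      have hys : T.mkQ y = ∑ i, (y i - s i) • T.mkQ (Pi.single i 1) := by
        rw [← sub_zero (T.mkQ y), ← (Submodule.Quotient.mk_eq_zero T).2 hs]
        show T.mkQ y - T.mkQ s = _
        rw [← map_sub]
        conv_lhs => rw [pi_eq_sum_univ (y - s)]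
        rw [map_sum]
        refine Finset.sum_congr rfl fun i _ => ?_
        rw [map_smul]
        congr 2
        funext j
        simp [Pi.single_apply, eq_comm]
      rw [hys]
      refine Submodule.sum_mem _ fun i _ => Submodule.smul_mem_smul ?_ Submodule.mem_top
      exact Ideal.pow_le_pow_right (Nat.le_succ n) ((ker_proj hN hV n).le (hsy i))
    rw [hb] at this
    exact (Submodule.Quotient.mk_eq_zero T).1 this
  intro k
  haveI := (h𝔐 k).1
  have h0 : ∑ i, proj 𝔛 h V k (y i) • (𝔐.F k).presheaf.map (homOfLE (lvU_mono (h := h) hVU k)).op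
      (mProj h U 𝔐 k (m i)) = 0 := by
    have := congrArg (mProj h V 𝔐 k) hy
    rw [sum_smul_proj] at this
    refine Eq.trans (Finset.sum_congr rfl fun i _ => ?_)
      (this.trans (map_zero (AddMonoidHom.mk' (mProj h V 𝔐 k) (sProj_add h V _ _ k))))
    exact congrArg (proj 𝔛 h V k (y i) • ·) (sProj_res h _ _ hVU k (m i)).symm
  suffices H : ∀ z ∈ Submodule.span (LSec 𝔛 h V k) ((fun b : ι → LSec 𝔛 h U k => fun i =>
      (𝔛.X k).presheaf.map (homOfLE (lvU_mono (h := h) hVU k)).op (b i)) ''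
        {b | ∑ i, b i • mProj h U 𝔐 k (m i) = 0}), ∃ s ∈ T, ∀ i, proj 𝔛 h V k (s i) = z i by
    obtain ⟨s, hs, hsz⟩ := H _ (mem_span_relations (𝔐.F k) (FFormal7.isAffineOpen_lvU 𝔛 h hU k)
      (FFormal7.isAffineOpen_lvU 𝔛 h hV k) (lvU_mono (h := h) hVU k) _ (fun i => proj 𝔛 h V k (y i)) h0)
    exact ⟨s, hs, fun i => by rw [map_sub, hsz, sub_self]⟩
  intro z hz
  refine Submodule.span_induction ?_ ⟨0, zero_mem _, fun i => map_zero _⟩ ?_ ?_ hz
  · rintro _ ⟨b, hb, rfl⟩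
    choose a ha using fun i => proj_surjective hN hU k (b i)
    have h1 : mProj h U 𝔐 k (∑ i, a i • m i) = 0 := by
      rw [sum_smul_proj]
      simpa [ha] using hb
    have h2 := (mProj_eq_zero_iff hN hU h𝔐 k _).1 h1
    rw [← hm, Submodule.mem_ideal_smul_span_iff_exists_sum] at h2
    obtain ⟨c, hc, hcm⟩ := h2
    refine ⟨fun i => rRes hVU (a i - c i), Submodule.subset_span ⟨fun i => a i - c i, ?_, rfl⟩, fun i => ?_⟩
    · show ∑ i, (a i - c i) • m i = 0
      simp only [sub_smul, Finset.sum_sub_distrib]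
      rw [← hcm]
      exact sub_eq_zero.2 (Finsupp.sum_fintype c _ fun i => zero_smul (Sec 𝔛 h U) (m i))
    · refine (proj_res h U hVU k (a i - c i)).trans (congrArg _ ?_)
      have : proj 𝔛 h U k (c i) = 0 := (ker_proj hN hU k).ge (hc i)
      rw [map_sub, ha, this, sub_zero]
  · rintro a b _ _ ⟨s, hs, hsa⟩ ⟨s', hs', hsb⟩
    exact ⟨s + s', add_mem hs hs', fun i => by rw [Pi.add_apply, map_add, hsa, hsb, Pi.add_apply]⟩
  · rintro r b _ ⟨s, hs, hsb⟩
    obtain ⟨a, rfl⟩ := proj_surjective hN hV k r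
    exact ⟨a • s, Submodule.smul_mem _ _ hs, fun i => by
      rw [Pi.smul_apply, smul_eq_mul, map_mul, hsb, Pi.smul_apply, smul_eq_mul]⟩

end GrothLib.FMod7
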