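import Groth.Agent.Lib.FMod7.Ring
import Groth.Prelude.Def_FSch5

/-!
# Sections of limits of direct images from the levels
-/

set_option autoImplicit false
set_option linter.style.haveILetI false
set_option linter.unusedSectionVars false
universe u

open CategoryTheory CategoryTheory.Limits AlgebraicGeometry TopologicalSpace Opposite

noncomputable section

namespace GrothLib.FMod7

variable {𝔛 : FSch.Sys.{u}} (h : 𝔛.IsFormal) (U : (𝔛.X 0).Opens)
  (G : ∀ k, (𝔛.X k).Modules) (t : ∀ k, G (k + 1) ⟶ (Scheme.Modules.pushforward (𝔛.ι k)).obj (G k))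

/-- The sections of a level module. -/
abbrev MSec (k : ℕ) : Type u := Γ(G k, 𝔛.lvU h k U)

/-- The sections of the limit. -/
abbrev LimSec : Type u := (FSch.realLim 𝔛 h G t).val.obj (op U)

instance moduleLimSec : Module (Sec 𝔛 h U) (LimSec h U G t) :=
  inferInstanceAs (Module ((ModSite.ringSh (𝔛.Osh h)).obj.obj (op U)) ((FSch.realLim 𝔛 h G t).val.obj (op U)))

/-- The projection of sections. -/
def sProj (k : ℕ) : LimSec h U G t → MSec h U G k := fun x => (FSch.realProj 𝔛 h G t k).val.app (op U) x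

/-- The transition of sections. -/
def sTrans (k : ℕ) (m : MSec h U G (k + 1)) : MSec h U G k :=
  (G k).presheaf.map (homOfLE (𝔛.lvU_le h k U)).op ((t k).app (𝔛.lvU h (k + 1) U) m)

/-- Sections, as sets. -/
abbrev modSec : FSch.ModF 𝔛 h ⥤ Type u :=
  SheafOfModules.evaluation (ModSite.ringSh (𝔛.Osh h)) (op U) ⋙ forget _

theorem levelSysOf_map_app (k : ℕ) (m : MSec h U G (k + 1)) :
    (modSec h U).map ((FSch.levelSysOf 𝔛 h G t).map (homOfLE (Nat.le_add_right k 1)).op) m = sTrans h U G t k m :=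
  congrArg (fun φ : (FSch.levelMor 𝔛 h (k + 1)).push.obj (G (k + 1)) ⟶ (FSch.levelMor 𝔛 h k).push.obj (G k) =>
    φ.val.app (op U) m) (FSch.levelSysOf_map_succ 𝔛 h G t k)

theorem sTrans_sProj (k : ℕ) (x : LimSec h U G t) :
    sTrans h U G t k (sProj h U G t (k + 1) x) = sProj h U G t k x := by
  rw [← levelSysOf_map_app]
  exact congrArg (fun φ : FSch.realLim 𝔛 h G t ⟶ (FSch.levelSysOf 𝔛 h G t).obj (op k) => φ.val.app (op U) x)
    (limit.w (FSch.levelSysOf 𝔛 h G t) (homOfLE (Nat.le_add_right k 1)).op)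

theorem exists_section (s : ∀ k, MSec h U G k) (hs : ∀ k, sTrans h U G t k (s (k + 1)) = s k) :
    ∃ x : LimSec h U G t, ∀ k, sProj h U G t k x = s k := by
  let F := FSch.levelSysOf 𝔛 h G t
  let S : ∀ n : ℕᵒᵖ, (F ⋙ modSec h U).obj n := fun n => s n.unop
  have hle : ∀ {m n : ℕ} (hmn : n ≤ m), (F ⋙ modSec h U).map (homOfLE hmn).op (S (op m)) = S (op n) := by
    intro m n hmn
    induction m, hmn using Nat.le_induction with
    | base => exact ConcreteCategory.congr_hom ((F ⋙ modSec h U).map_id (op n)) (S (op n))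
    | succ m hm ih =>
      refine (ConcreteCategory.congr_hom (show (F ⋙ modSec h U).map (homOfLE (hm.trans (Nat.le_succ m))).op =
        (F ⋙ modSec h U).map (homOfLE (Nat.le_succ m)).op ≫ (F ⋙ modSec h U).map (homOfLE hm).op from
          Functor.map_comp _ _ _) (S (op (m + 1)))).trans ?_
      refine Eq.trans (congrArg ((F ⋙ modSec h U).map (homOfLE hm).op) ?_) ih
      exact (levelSysOf_map_app h U G t m (s (m + 1))).trans (hs m)
  have hl := isLimitOfPreserves (modSec h U) (limit.isLimit F)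
  exact ⟨(Types.isLimitEquivSections hl).symm ⟨S, fun {a b} f => hle f.unop.le⟩,
    fun n => Types.isLimitEquivSections_symm_apply hl _ (op n)⟩

theorem section_ext (x y : LimSec h U G t) (hxy : ∀ k, sProj h U G t k x = sProj h U G t k y) : x = y := by
  have hl := isLimitOfPreserves (modSec h U) (limit.isLimit (FSch.levelSysOf 𝔛 h G t))
  exact (Types.isLimitEquivSections hl).injective (Subtype.ext (funext fun n => hxy n.unop))

theorem sProj_add (k : ℕ) (x y : LimSec h U G t) :
    sProj h U G t k (x + y) = sProj h U G t k x + sProj h U G t k y :=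
  map_add ((FSch.realProj 𝔛 h G t k).val.app (op U)).hom x y

theorem sProj_smul (k : ℕ) (a : Sec 𝔛 h U) (x : LimSec h U G t) :
    sProj h U G t k (a • x) = proj 𝔛 h U k a • sProj h U G t k x :=
  ((FSch.realProj 𝔛 h G t k).val.app (op U)).hom.map_smul a x

variable {U} in
theorem sProj_res {V : (𝔛.X 0).Opens} (hVU : V ≤ U) (k : ℕ) (x : LimSec h U G t) :
    sProj h V G t k ((FSch.realLim 𝔛 h G t).val.map (homOfLE hVU).op x) =
      (G k).presheaf.map (homOfLE ((Opens.map (𝔛.gInv h k)).map (homOfLE hVU)).le).op (sProj h U G t k x) :=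
  PresheafOfModules.naturality_apply (FSch.realProj 𝔛 h G t k).val (homOfLE hVU).op x

theorem sTrans_add (k : ℕ) (m n : MSec h U G (k + 1)) :
    sTrans h U G t k (m + n) = sTrans h U G t k m + sTrans h U G t k n :=
  (congrArg ((G k).presheaf.map _) (map_add ((t k).app _).hom m n)).trans (map_add _ _ _)

theorem sTrans_smul (k : ℕ) (r : LSec 𝔛 h U (k + 1)) (m : MSec h U G (k + 1)) :
    sTrans h U G t k (r • m) = trans 𝔛 h U k r • sTrans h U G t k m := by
  refine (congrArg ((G k).presheaf.map (homOfLE (𝔛.lvU_le h k U)).op) (Scheme.Modules.Hom.app_smul (t k) r m)).trans ?_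
  exact Scheme.Modules.map_smul (G k) (homOfLE (𝔛.lvU_le h k U)) _ _

theorem proj_res {V : (𝔛.X 0).Opens} (hVU : V ≤ U) (k : ℕ) (a : Sec 𝔛 h U) :
    proj 𝔛 h V k ((𝔛.Osh h).obj.map (homOfLE hVU).op a) =
      (𝔛.X k).presheaf.map (homOfLE ((Opens.map (𝔛.gInv h k)).map (homOfLE hVU)).le).op (proj 𝔛 h U k a) :=
  ConcreteCategory.congr_hom ((𝔛.OshProj h k).hom.naturality (homOfLE hVU).op) a

end GrothLib.FMod7
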