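import Groth.Agent.Lib.FMod7.Lim
import Groth.Agent.Lib.K0Sub.KerUnit
import Groth.Agent.Lib.AdicLim.System
import Groth.Agent.Lib.AdicLim.Finite
import Groth.Agent.Lib.QCoh.FT

/-!
# Sections over affine opens of the module of a coherent system
-/

set_option autoImplicit false
set_option linter.style.haveILetI false
set_option linter.unusedSectionVars false
universe u

open CategoryTheory CategoryTheory.Limits AlgebraicGeometry TopologicalSpace Opposite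

noncomputable section

namespace GrothLib.FMod7

variable {𝔛 : FSch.Sys.{u}} (h : 𝔛.IsFormal) (U : (𝔛.X 0).Opens) (𝔐 : FSch.ModSys 𝔛)

/-- The transition of sections of a system. -/
abbrev mTrans (k : ℕ) : MSec h U 𝔐.F (k + 1) → MSec h U 𝔐.F k := sTrans h U 𝔐.F 𝔐.toPush k

/-- The sections of the module of a system. -/
abbrev Mods : Type u := LimSec h U 𝔐.F 𝔐.toPush

/-- The projections of the module of a system. -/
abbrev mProj (k : ℕ) : Mods h U 𝔐 → MSec h U 𝔐.F k := sProj h U 𝔐.F 𝔐.toPush k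

theorem toPush_app (k : ℕ) (V : (𝔛.X (k + 1)).Opens) (m : Γ(𝔐.F (k + 1), V)) :
    (𝔐.toPush k).app V m = (𝔐.e k).hom.app (𝔛.ι k ⁻¹ᵁ V) ((K0Sub.unitApp (𝔛.ι k) (𝔐.F (k + 1))).app V m) :=
  congrArg (fun φ : 𝔐.F (k + 1) ⟶ (Scheme.Modules.pushforward (𝔛.ι k)).obj (𝔐.F k) => φ.app V m)
    (Adjunction.homEquiv_unit _ _ _ _)

variable {h U 𝔐}
variable (hN : 𝔛.IsLocNoethFormal) (hU : IsAffineOpen U) (h𝔐 : 𝔐.IsCoh)
include hN hU h𝔐

theorem mTrans_surjective (k : ℕ) : Function.Surjective (mTrans h U 𝔐 k) := by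
  haveI := (h k).1
  haveI := (h𝔐 (k + 1)).1
  have h1 := (K0Sub.app_unit_surjective_and_ker (𝔛.ι k) (𝔐.F (k + 1))
    ⟨_, FFormal7.isAffineOpen_lvU 𝔛 h hU (k + 1)⟩).1
  haveI : IsIso ((𝔐.F k).presheaf.map (homOfLE (𝔛.lvU_le h k U)).op) :=
    (𝔐.F k).presheaf.map_isIso (eqToHom (congrArg op (𝔛.lvU_succ h k U)))
  intro z
  obtain ⟨y, hy⟩ := (ConcreteCategory.bijective_of_isIso ((𝔐.F k).presheaf.map (homOfLE (𝔛.lvU_le h k U)).op)).2 z
  obtain ⟨w, hw⟩ := (ConcreteCategory.bijective_of_isIso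
    ((𝔐.e k).hom.app (𝔛.ι k ⁻¹ᵁ 𝔛.lvU h (k + 1) U))).2 y
  obtain ⟨m, hm⟩ := h1 w
  refine ⟨m, ?_⟩
  show (𝔐.F k).presheaf.map _ ((𝔐.toPush k).app _ m) = z
  rw [toPush_app, hm, hw]
  exact hy

theorem mTrans_eq_zero_iff (k : ℕ) (m : MSec h U 𝔐.F (k + 1)) :
    mTrans h U 𝔐 k m = 0 ↔ m ∈ RingHom.ker (trans 𝔛 h U k) • (⊤ : Submodule (LSec 𝔛 h U (k + 1)) _) := by
  haveI := (h k).1
  haveI := (h𝔐 (k + 1)).1
  have h1 := (K0Sub.app_unit_surjective_and_ker (𝔛.ι k) (𝔐.F (k + 1))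
    ⟨_, FFormal7.isAffineOpen_lvU 𝔛 h hU (k + 1)⟩).2 m
  haveI : IsIso ((𝔐.F k).presheaf.map (homOfLE (𝔛.lvU_le h k U)).op) :=
    (𝔐.F k).presheaf.map_isIso (eqToHom (congrArg op (𝔛.lvU_succ h k U)))
  rw [ker_trans hU k, ← h1]
  show (𝔐.F k).presheaf.map _ ((𝔐.toPush k).app _ m) = 0 ↔ _
  rw [toPush_app, map_eq_zero_iff _ (ConcreteCategory.bijective_of_isIso
    ((𝔐.F k).presheaf.map (homOfLE (𝔛.lvU_le h k U)).op)).1]
  exact map_eq_zero_iff _ (ConcreteCategory.bijective_of_isIso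
    ((𝔐.e k).hom.app (𝔛.ι k ⁻¹ᵁ 𝔛.lvU h (k + 1) U))).1

theorem mods_package : Module.Finite (Sec 𝔛 h U) (Mods h U 𝔐) ∧
    (∀ k, Function.Surjective (mProj h U 𝔐 k) ∧
      ∀ x, mProj h U 𝔐 k x = 0 ↔ x ∈ secIdeal 𝔛 h U ^ (k + 1) • (⊤ : Submodule (Sec 𝔛 h U) (Mods h U 𝔐))) := by
  haveI := isAdicComplete_Sec (h := h) hN hU
  letI : ∀ k, Module (Sec 𝔛 h U) (MSec h U 𝔐.F k) := fun k => Module.compHom _ (proj 𝔛 h U k)
  let f : ∀ k, MSec h U 𝔐.F (k + 1) →ₗ[Sec 𝔛 h U] MSec h U 𝔐.F k := fun k =>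
    { toFun := mTrans h U 𝔐 k
      map_add' := sTrans_add h U _ _ k
      map_smul' := fun a m => by
        show mTrans h U 𝔐 k (proj 𝔛 h U (k + 1) a • m) = proj 𝔛 h U k a • mTrans h U 𝔐 k m
        rw [← trans_proj 𝔛 h U k a]
        exact sTrans_smul h U _ _ k _ m }
  let π : ∀ k, Mods h U 𝔐 →ₗ[Sec 𝔛 h U] MSec h U 𝔐.F k := fun k =>
    { toFun := mProj h U 𝔐 k
      map_add' := sProj_add h U _ _ k
      map_smul' := fun a m => sProj_smul h U _ _ k a m }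
  have hker : ∀ (k : ℕ) (K : Ideal (Sec 𝔛 h U)) (m : MSec h U 𝔐.F k),
      m ∈ K • (⊤ : Submodule (Sec 𝔛 h U) (MSec h U 𝔐.F k)) ↔
        m ∈ K.map (proj 𝔛 h U k) • (⊤ : Submodule (LSec 𝔛 h U k) (MSec h U 𝔐.F k)) := by
    intro k K m
    constructor
    · intro hm
      refine Submodule.smul_induction_on hm (fun a ha x _ => ?_) (fun x y hx hy => add_mem hx hy)
      exact Submodule.smul_mem_smul (Ideal.mem_map_of_mem _ ha) Submodule.mem_top
    · intro hm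
      refine Submodule.smul_induction_on hm (fun b hb x _ => ?_) (fun x y hx hy => add_mem hx hy)
      obtain ⟨a, ha, rfl⟩ := (Ideal.mem_map_iff_of_surjective _ (proj_surjective hN hU k)).1 hb
      exact Submodule.smul_mem_smul ha Submodule.mem_top
  have hsys : AdicLim.IsLimitSystem (secIdeal 𝔛 h U) f π := by
    refine ⟨mTrans_surjective hN hU h𝔐, fun k => ?_, fun k => LinearMap.ext (sTrans_sProj h U _ _ k),
      fun x hx => section_ext h U _ _ x 0 fun k => (hx k).trans (map_zero (π k)).symm, exists_section h U _ _⟩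
    ext m
    rw [LinearMap.mem_ker, hker, map_proj_secIdeal_pow hN hU]
    exact mTrans_eq_zero_iff hN hU h𝔐 k m
  have hfin : Module.Finite (Sec 𝔛 h U) (MSec h U 𝔐.F 0) := by
    haveI := (h𝔐 0).1
    haveI := QCoh.moduleFinite_of_isFiniteType (𝔐.F 0) (h𝔐 0).2 (FFormal7.isAffineOpen_lvU 𝔛 h hU 0)
    letI : Algebra (Sec 𝔛 h U) (LSec 𝔛 h U 0) := (proj 𝔛 h U 0).toAlgebra
    haveI : IsScalarTower (Sec 𝔛 h U) (LSec 𝔛 h U 0) (MSec h U 𝔐.F 0) :=
      IsScalarTower.of_algebraMap_smul fun _ _ => rfl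
    haveI : Module.Finite (Sec 𝔛 h U) (LSec 𝔛 h U 0) :=
      Module.Finite.of_surjective (Algebra.linearMap _ _) (proj_surjective hN hU 0)
    exact Module.Finite.trans (LSec 𝔛 h U 0) _
  obtain ⟨h1, h2⟩ := hsys.finite_and_ker hfin
  exact ⟨h1, fun k => ⟨hsys.proj_surjective k, fun x => by rw [← h2 k, LinearMap.mem_ker]; rfl⟩⟩

theorem moduleFinite_mods : Module.Finite (Sec 𝔛 h U) (Mods h U 𝔐) := (mods_package hN hU h𝔐).1

theorem mProj_surjective (k : ℕ) : Function.Surjective (mProj h U 𝔐 k) := ((mods_package hN hU h𝔐).2 k).1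

theorem mProj_eq_zero_iff (k : ℕ) (x : Mods h U 𝔐) : mProj h U 𝔐 k x = 0 ↔
    x ∈ secIdeal 𝔛 h U ^ (k + 1) • (⊤ : Submodule (Sec 𝔛 h U) (Mods h U 𝔐)) :=
  ((mods_package hN hU h𝔐).2 k).2 x

theorem mods_complete : IsAdicComplete (secIdeal 𝔛 h U) (Mods h U 𝔐) := by
  haveI := isNoetherianRing_Sec (h := h) hN hU
  haveI := isAdicComplete_Sec (h := h) hN hU
  haveI := moduleFinite_mods (h := h) hN hU h𝔐
  exact AdicLim.isAdicComplete_of_finite _ _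

end GrothLib.FMod7
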