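import Groth.Agent.Lib.FMod7.Pres
import Mathlib.Algebra.Category.ModuleCat.Sheaf.PushforwardContinuous

/-!
# Inverse images of presented modules
-/

set_option autoImplicit false
set_option linter.style.haveILetI false
universe u

open CategoryTheory CategoryTheory.Limits Opposite TopologicalSpace

noncomputable section

namespace GrothLib.FMod7

variable {T T' : TopCat.{u}} {O : Sheaf (Opens.grothendieckTopology T) CommRingCat.{u}}
  {O' : Sheaf (Opens.grothendieckTopology T') CommRingCat.{u}}

/-- The adjunction of restriction to an open and the direct image from it. -/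
abbrev overAdj (O : Sheaf (Opens.grothendieckTopology T) CommRingCat.{u}) (U : Opens T) :
    ModSite.restr O U ⊣ SheafOfModules.pushforward.{u} (SheafOfModules.pushforwardOver (R := ModSite.ringSh O) U) :=
  SheafOfModules.overPushforwardOverAdj.{u} U

theorem bijective_map_over {U : Opens T} (N : ModSite.Mod (O.over U)) {A B : Over U} (f : A ⟶ B)
    (h : B.left ≤ A.left) : Function.Bijective (N.val.map f.op) := by
  let g : B ⟶ A := Over.homMk (homOfLE h)
  haveI : IsIso f := ⟨g, Over.OverMorphism.ext (Subsingleton.elim _ _), Over.OverMorphism.ext (Subsingleton.elim _ _)⟩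
  haveI : IsIso (N.val.presheaf.map f.op) := inferInstance
  exact ConcreteCategory.bijective_of_isIso (N.val.presheaf.map f.op)

/-- The arrow from the product with `U` to `U`. -/
abbrev starTop (U A : Opens T) : (Over.star U).obj A ⟶ otop U := Over.mkIdTerminal.from _

theorem le_star {U A : Opens T} (h : U ≤ A) : U ≤ ((Over.star U).obj A).left :=
  leOfHom (prod.lift (𝟙 U) (homOfLE h))

theorem star_mono {U A B : Opens T} (h : U ⊓ A ≤ B) : ((Over.star U).obj A).left ≤ ((Over.star U).obj B).left := by
  let a : (prod U A : Opens T) ⟶ U := prod.fst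
  let b : (prod U A : Opens T) ⟶ A := prod.snd
  exact leOfHom (prod.lift a (homOfLE ((le_inf a.le b.le).trans h)) : (prod U A : Opens T) ⟶ prod U B)

variable (f : ModSite.RMor O' O) (U : Opens T)
  (hmeet : ∀ W, f.fn.obj U ⊓ f.fn.obj W ≤ f.fn.obj (U ⊓ W))

/-- Direct image from an open, then along `f`. -/
abbrev pushOver (N : ModSite.Mod (O'.over (f.fn.obj U))) : ModSite.Mod O :=
  f.push.obj ((SheafOfModules.pushforward.{u}
    (SheafOfModules.pushforwardOver (R := ModSite.ringSh O') (f.fn.obj U))).obj N)

include hmeet in
theorem isIso_unit_pushOver (N : ModSite.Mod (O'.over (f.fn.obj U))) :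
    IsIso ((overAdj O U).unit.app (pushOver f U N)) := by
  let P := pushOver f U N
  suffices H : ∀ W : Opens T, Function.Bijective (((overAdj O U).unit.app P).val.app (op W)) by
    haveI : IsIso ((SheafOfModules.forget _ ⋙ PresheafOfModules.toPresheaf _).map ((overAdj O U).unit.app P)) := by
      rw [NatTrans.isIso_iff_isIso_app]
      exact fun W => (ConcreteCategory.isIso_iff_bijective _).2 (H W.unop)
    exact isIso_of_reflects_iso _ (SheafOfModules.forget _ ⋙ PresheafOfModules.toPresheaf _)
  intro W
  let c : U ⨯ W ⟶ W := prod.snd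
  exact bijective_map_over N ((Over.star (f.fn.obj U)).map (f.fn.map c)) (star_mono ((hmeet W).trans
    (f.fn.map (prod.lift (homOfLE inf_le_left) (homOfLE inf_le_right) : U ⊓ W ⟶ U ⨯ W)).le))

variable {F : ModSite.Mod O} {ι κ : Type u} [Fintype ι] [Fintype κ]
  {s : ι → ModSite.sect F U} {r : κ → ι → O.obj.obj (op U)}

/-- A pulled back section. -/
abbrev psec {U : Opens T} (m : ModSite.sect F U) : ModSite.sect (f.pull.obj F) (f.fn.obj U) :=
  (f.adj.unit.app F).val.app (op U) m

/-- A pulled back function. -/
abbrev pfun {U : Opens T} (a : O.obj.obj (op U)) : O'.obj.obj (op (f.fn.obj U)) :=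
  (f.sharp.hom.app (op U)).hom a

omit [Fintype κ] in
theorem psec_smul {U : Opens T} (a : O.obj.obj (op U)) (m : ModSite.sect F U) :
    psec f (a • m) = pfun f a • psec f m :=
  ((f.adj.unit.app F).val.app (op U)).hom.map_smul a m

include hmeet in
/-- The inverse image of a presented module is presented by the pulled back generators and relations. -/
theorem IsPres.pull (hP : IsPres F U s r) :
    IsPres (f.pull.obj F) (f.fn.obj U) (fun i => psec f (s i)) fun k i => pfun f (r k i) := by
  let V := f.fn.obj U
  let jU := overAdj O U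
  let adjC := f.adj.comp (overAdj O' V)
  have hq : ∀ N : ModSite.Mod (O'.over V), Function.Injective (N.val.map (starTop V V).op) := fun N =>
    (bijective_map_over N (starTop V V) (le_star le_rfl)).1
  have heval : ∀ {N : ModSite.Mod (O'.over V)} (φ : (ModSite.restr O' V).obj (f.pull.obj F) ⟶ N) (m : ModSite.sect F U),
      ((adjC.homEquiv F N φ).val.app (op U)).hom m =
        N.val.map (starTop V V).op ((φ.val.app (op (otop V))).hom (psec f m)) := by
    intro N φ m
    refine Eq.trans (congrArg (fun Φ : F ⟶ pushOver f U N => (Φ.val.app (op U)).hom m) (adjC.homEquiv_unit _ _ φ)) ?_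
    exact PresheafOfModules.naturality_apply φ.val (starTop V V).op (psec f m)
  refine isPres_of_universal (fun k => ?_) (fun N n hn => ?_) (fun N φ φ' he => ?_)
  · refine Eq.trans ?_ ((congrArg (psec f) (hP.rel k)).trans (map_zero ((f.adj.unit.app F).val.app (op U)).hom))
    exact (Eq.trans (map_sum ((f.adj.unit.app F).val.app (op U)).hom _ _)
      (Finset.sum_congr rfl fun i _ => psec_smul f _ _)).symm
  · let ε := @asIso _ _ _ _ (jU.unit.app (pushOver f U N)) (isIso_unit_pushOver f U hmeet N)
    let n' : ι → ModSite.sect (pushOver f U N) U := fun i => N.val.map (starTop V V).op (n i)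
    obtain ⟨ψ, hψ⟩ := hP.exists_hom (N := (ModSite.restr O U).obj (pushOver f U N)) n' fun k => by
      refine Eq.trans ?_ ((congrArg (N.val.map (starTop V V).op) (hn k)).trans (map_zero _))
      refine Eq.trans (Finset.sum_congr rfl fun i _ => ?_) (map_sum (N.val.map (starTop V V).op).hom _ _).symm
      refine Eq.trans ?_ (PresheafOfModules.map_smul N.val (starTop V V).op (pfun f (r k i)) (n i)).symm
      refine congrArg (fun a : O'.obj.obj (op ((Over.star V).obj V).left) =>
        a • (show osect N ((Over.star V).obj V) from N.val.map (starTop V V).op (n i))) ?_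
      exact congrArg (fun g : ((Over.star V).obj V).left ⟶ V => (O'.obj.map g.op).hom (pfun f (r k i)))
        (Subsingleton.elim _ _)
    let Φ : F ⟶ pushOver f U N := jU.homEquiv F (pushOver f U N |> (ModSite.restr O U).obj) ψ ≫ ε.inv
    have hΦ : (ModSite.restr O U).map Φ = ψ := by
      apply (jU.homEquiv _ _).injective
      rw [jU.homEquiv_unit]
      refine (jU.unit.naturality Φ).symm.trans ?_
      exact (Category.assoc _ _ _).trans ((congrArg (jU.homEquiv _ _ ψ ≫ ·) ε.inv_hom_id).trans
        (Category.comp_id _))
    refine ⟨(adjC.homEquiv _ _).symm Φ, fun i => hq N ?_⟩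
    refine (heval _ (s i)).symm.trans ?_
    refine (congrArg (fun Φ' : F ⟶ pushOver f U N => (Φ'.val.app (op U)).hom (s i))
      ((adjC.homEquiv _ _).apply_symm_apply Φ)).trans ?_
    exact (congrArg (fun g : (ModSite.restr O U).obj F ⟶ _ => (g.val.app (op (otop U))).hom (s i)) hΦ).trans (hψ i)
  · haveI := isIso_unit_pushOver f U hmeet N
    apply (adjC.homEquiv _ _).injective
    have key : ∀ g g' : F ⟶ pushOver f U N, (ModSite.restr O U).map g = (ModSite.restr O U).map g' → g = g' :=
      fun g g' hg => (cancel_mono (jU.unit.app (pushOver f U N))).1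
        ((jU.unit.naturality g).trans ((congrArg (fun z => jU.unit.app F ≫
          (SheafOfModules.pushforward.{u} (SheafOfModules.pushforwardOver (R := ModSite.ringSh O) U)).map z) hg).trans
            (jU.unit.naturality g').symm))
    refine key _ _ (hP.hom_ext fun i => ?_)
    exact (heval φ (s i)).trans ((congrArg _ (he i)).trans (heval φ' (s i)).symm)

end GrothLib.FMod7
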