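import Groth.Agent.Lib.FFormal7.Sections
import Groth.Agent.Lib.FSchSys.Levels
import Groth.Agent.Lib.AdicLim.RingSystem
import Groth.Agent.Lib.AdicLim.Noeth
import Groth.Prelude.Def_FSch5

/-!
# The ring of sections of a locally Noetherian formal scheme over an affine open
-/

set_option autoImplicit false
set_option linter.style.haveILetI false
set_option linter.unusedSectionVars false
universe u

open CategoryTheory CategoryTheory.Limits AlgebraicGeometry TopologicalSpace Opposite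

noncomputable section

namespace GrothLib.FMod7

variable (𝔛 : FSch.Sys.{u}) (h : 𝔛.IsFormal) (U : (𝔛.X 0).Opens)

/-- The sections of the structure sheaf. -/
abbrev Sec : Type u := (𝔛.Osh h).obj.obj (op U)

/-- The sections on a level. -/
abbrev LSec (n : ℕ) : Type u := Γ(𝔛.X n, 𝔛.lvU h n U)

/-- The projection to the sections on a level. -/
def proj (n : ℕ) : Sec 𝔛 h U →+* LSec 𝔛 h U n := ((𝔛.OshProj h n).hom.app (op U)).hom

/-- The transition on sections. -/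
def trans (n : ℕ) : LSec 𝔛 h U (n + 1) →+* LSec 𝔛 h U n := ((𝔛.levelMap h n).hom.app (op U)).hom

theorem trans_proj (n : ℕ) (x : Sec 𝔛 h U) : trans 𝔛 h U n (proj 𝔛 h U (n + 1) x) = proj 𝔛 h U n x :=
  FFormal7.OshProj_levelMap_apply 𝔛 h U n x

/-- The ideal of definition on sections. -/
def secIdeal : Ideal (Sec 𝔛 h U) := RingHom.ker (proj 𝔛 h U 0)

/-- The composite transitions to the smallest level. -/
def toZero : (n : ℕ) → LSec 𝔛 h U n →+* LSec 𝔛 h U 0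
  | 0 => RingHom.id _
  | n + 1 => (toZero n).comp (trans 𝔛 h U n)

theorem le_preimage_toX (n : ℕ) : 𝔛.lvU h 0 U ≤ 𝔛.toX n ⁻¹ᵁ 𝔛.lvU h n U :=
  (FFormal7.toX_preimage_lvU 𝔛 h 0 U).le.trans (FFormal7.toX_preimage_lvU 𝔛 h n U).ge

theorem toZero_eq (n : ℕ) : toZero 𝔛 h U n =
    ((𝔛.toX n).appLE (𝔛.lvU h n U) (𝔛.lvU h 0 U) (le_preimage_toX 𝔛 h U n)).hom := by
  induction n with
  | zero =>
    ext x
    show x = _
    simp only [FSch.Sys.toX, Scheme.Hom.appLE, Scheme.Hom.id_app]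
    exact (ConcreteCategory.congr_hom ((𝔛.X 0).presheaf.map_id _) x).symm
  | succ n ih =>
    show (toZero 𝔛 h U n).comp (trans 𝔛 h U n) = _
    rw [ih]
    refine Eq.trans ?_ (congrArg CommRingCat.Hom.hom (FSch.appLE_comp_appLE_of_eq (𝔛.toX n) (𝔛.ι n) _ rfl _ _ _
      (𝔛.lvU_le h n U) (le_preimage_toX 𝔛 h U n) _))
    rfl

variable {𝔛 h U}

theorem ker_appLE_of_eq {Z X : Scheme.{u}} (f : Z ⟶ X) [IsClosedImmersion f] (V : X.affineOpens) (P : Z.Opens)
    (e : P ≤ f ⁻¹ᵁ V.1) (heq : P = f ⁻¹ᵁ V.1) : RingHom.ker (f.appLE V.1 P e).hom = f.ker.ideal V := by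
  subst heq
  rw [← f.app_eq_appLE, Scheme.Hom.ker_apply]

theorem ker_trans (hU : IsAffineOpen U) (n : ℕ) :
    RingHom.ker (trans 𝔛 h U n) = (𝔛.ι n).ker.ideal ⟨_, FFormal7.isAffineOpen_lvU 𝔛 h hU (n + 1)⟩ := by
  haveI := (h n).1
  exact ker_appLE_of_eq (𝔛.ι n) ⟨_, FFormal7.isAffineOpen_lvU 𝔛 h hU (n + 1)⟩ _ _ (𝔛.lvU_succ h n U).symm

theorem ker_toZero (hU : IsAffineOpen U) (n : ℕ) :
    RingHom.ker (toZero 𝔛 h U n) = (𝔛.toX n).ker.ideal ⟨_, FFormal7.isAffineOpen_lvU 𝔛 h hU n⟩ := by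
  haveI := 𝔛.toX_isClosedImmersion h n
  rw [toZero_eq]
  exact ker_appLE_of_eq (𝔛.toX n) ⟨_, FFormal7.isAffineOpen_lvU 𝔛 h hU n⟩ _ _
    ((FFormal7.toX_preimage_lvU 𝔛 h 0 U).trans (FFormal7.toX_preimage_lvU 𝔛 h n U).symm)

theorem ker_trans_eq_pow (ha : 𝔛.IsAdic) (hU : IsAffineOpen U) (n : ℕ) :
    RingHom.ker (trans 𝔛 h U n) = RingHom.ker (toZero 𝔛 h U (n + 1)) ^ (n + 1) := by
  rw [ker_trans hU, ker_toZero hU, ha n, Scheme.IdealSheafData.ideal_pow, Pi.pow_apply]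

theorem trans_surjective (hU : IsAffineOpen U) (n : ℕ) : Function.Surjective (trans 𝔛 h U n) :=
  FFormal7.levelMap_app_surjective 𝔛 h hU n

variable (hN : 𝔛.IsLocNoethFormal) (hU : IsAffineOpen U)
include hN hU

theorem isNoetherianRing_LSec (n : ℕ) : IsNoetherianRing (LSec 𝔛 h U n) :=
  haveI := hN.2.2 n
  IsLocallyNoetherian.component_noetherian ⟨_, FFormal7.isAffineOpen_lvU 𝔛 h hU n⟩

theorem ring_package : IsAdicComplete (secIdeal 𝔛 h U) (Sec 𝔛 h U) ∧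
    (∀ n, Function.Surjective (proj 𝔛 h U n) ∧ RingHom.ker (proj 𝔛 h U n) = secIdeal 𝔛 h U ^ (n + 1)) ∧
    (secIdeal 𝔛 h U).FG := by
  refine AdicLim.ring_system (LSec 𝔛 h U) (trans 𝔛 h U) (trans_surjective hU) (toZero 𝔛 h U) rfl (fun _ => rfl)
    (ker_trans_eq_pow hN.2.1 hU) ?_ (Sec 𝔛 h U) (proj 𝔛 h U) (fun n => RingHom.ext (trans_proj 𝔛 h U n)) ?_ ?_
  · haveI := isNoetherianRing_LSec (h := h) hN hU 1
    exact IsNoetherian.noetherian _
  · intro x hx
    exact FFormal7.Osh_section_ext 𝔛 h U x 0 fun n => (hx n).trans (map_zero _).symm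
  · exact fun y hy => FFormal7.exists_Osh_section 𝔛 h U y hy

theorem isAdicComplete_Sec : IsAdicComplete (secIdeal 𝔛 h U) (Sec 𝔛 h U) := (ring_package hN hU).1

theorem proj_surjective (n : ℕ) : Function.Surjective (proj 𝔛 h U n) := ((ring_package hN hU).2.1 n).1

theorem ker_proj (n : ℕ) : RingHom.ker (proj 𝔛 h U n) = secIdeal 𝔛 h U ^ (n + 1) :=
  ((ring_package hN hU).2.1 n).2

theorem isNoetherianRing_Sec : IsNoetherianRing (Sec 𝔛 h U) := by
  haveI := isAdicComplete_Sec (h := h) hN hU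
  haveI := isNoetherianRing_LSec (h := h) hN hU 0
  haveI : IsNoetherianRing (Sec 𝔛 h U ⧸ secIdeal 𝔛 h U) :=
    isNoetherianRing_of_ringEquiv _ (RingHom.quotientKerEquivOfSurjective (proj_surjective (h := h) hN hU 0)).symm
  exact AdicLim.isNoetherianRing_of_complete (ring_package (h := h) hN hU).2.2

theorem map_proj_secIdeal_pow (n : ℕ) :
    (secIdeal 𝔛 h U ^ (n + 1)).map (proj 𝔛 h U (n + 1)) = RingHom.ker (trans 𝔛 h U n) := by
  rw [← ker_proj hN hU n]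
  refine le_antisymm (Ideal.map_le_iff_le_comap.2 fun x hx => ?_) fun z hz => ?_
  · rw [Ideal.mem_comap, RingHom.mem_ker, trans_proj]
    exact hx
  · obtain ⟨x, rfl⟩ := proj_surjective hN hU (n + 1) z
    exact Ideal.mem_map_of_mem _ (by rw [RingHom.mem_ker, ← trans_proj]; exact hz)

end GrothLib.FMod7
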